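import Cfsg.Agent.EqualDegree.Columns
import Cfsg.Agent.Blocks.RegularSupport

/-!
# Class functions on the p-regular elements

Let `U` be a union of blocks of `Y` whose members trivial on the normal p-subgroup `V` have defect
zero modulo `V`.  A class function lying in the span of `U` agrees on the p-regular elements with
the combination of these members given by `dcoef`, and `dcoef` vanishes on them for the class
functions orthogonal to `U`.
-/

set_option autoImplicit false
set_option linter.style.haveILetI false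
set_option linter.unusedSectionVars false

namespace CfsgLib.EqualDegree

open Cfsg CfsgLib.Blocks CfsgLib.Star
open scoped ComplexConjugate

universe u

variable {Y : Type u} [Group Y] [Fintype Y] {p : ℕ} [Fact p.Prime] {M : Ideal AlgInt}
  {V : Subgroup Y} [V.Normal] {U : Set (IrrCharacter Y)}

/-- The members of `U` trivial on `V`. -/
def Good (U : Set (IrrCharacter Y)) (V : Subgroup Y) (η : IrrCharacter Y) : Prop :=
  η ∈ U ∧ ∀ x ∈ V, (η : Y → ℂ) x = (η : Y → ℂ) 1

theorem dcoef_eq_zero_of_not_trivial (hV : IsPGroup p V) {f : Y → ℂ}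
    (hf : Cfsg.IsClassFunction Y f) {ψ : IrrCharacter Y}
    (hψ : ¬ ∀ x ∈ V, (ψ : Y → ℂ) x = (ψ : Y → ℂ) 1) : dcoef p f ψ = 0 :=
  classInner_rp_eq_zero hV hf hψ

open Classical in
/-- The part in `U` of a class function, on the p-regular elements. -/
theorem sum_union_eq_dcoef [M.IsPrime] (hV : IsPGroup p V) (hM : Cfsg.IsPModular p M)
    (hU : IsBlockUnion M U) {f : Y → ℂ} (hf : Cfsg.IsClassFunction Y f) {z : Y}
    (hz : ¬ p ∣ orderOf z) :
    ∑ ψ, (if ψ ∈ U then Cfsg.classInner f (ψ : Y → ℂ) * (ψ : Y → ℂ) z else 0) =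
      ∑ η, if Good U V η then dcoef p f η * (η : Y → ℂ) z else 0 := by
  have h := sum_union_eq_zero hM hU (fun ψ => Cfsg.classInner f (ψ : Y → ℂ) - dcoef p f ψ)
    (fun y hy => ?_) hz
  · have h2 : ∑ ψ, (if ψ ∈ U then Cfsg.classInner f (ψ : Y → ℂ) * (ψ : Y → ℂ) z else 0) =
        ∑ ψ, if ψ ∈ U then dcoef p f ψ * (ψ : Y → ℂ) z else 0 := by
      rw [← sub_eq_zero, ← Finset.sum_sub_distrib]
      refine Eq.trans (Finset.sum_congr rfl fun ψ _ => ?_) h
      split_ifs <;> ring
    rw [h2]
    refine Finset.sum_congr rfl fun ψ _ => ?_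
    by_cases hψ : ∀ x ∈ V, (ψ : Y → ℂ) x = (ψ : Y → ℂ) 1
    · exact if_congr ⟨fun h => ⟨h, hψ⟩, fun h => h.1⟩ rfl rfl
    · rw [dcoef_eq_zero_of_not_trivial hV hf hψ]
      simp
  · have h1 := congrFun (Characters.classFunction_expansion hf) y
    have h2 := congrFun (Characters.classFunction_expansion (isClassFunction_rp (p := p) hf)) y
    simp only [Finset.sum_apply, Pi.smul_apply, smul_eq_mul, (rp_of_regular hy).2] at h1 h2
    simp only [sub_mul, Finset.sum_sub_distrib, dcoef]
    rw [← h1, ← h2, sub_self]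

open Classical in
/-- A class function in the span of `U`. -/
theorem eq_sum_good [M.IsPrime] (hV : IsPGroup p V) (hM : Cfsg.IsPModular p M)
    (hU : IsBlockUnion M U) {f : Y → ℂ} (hf : Cfsg.IsClassFunction Y f)
    (hin : ∀ ψ, ψ ∉ U → Cfsg.classInner f (ψ : Y → ℂ) = 0) {z : Y} (hz : ¬ p ∣ orderOf z) :
    f z = ∑ η, if Good U V η then dcoef p f η * (η : Y → ℂ) z else 0 := by
  rw [← sum_union_eq_dcoef hV hM hU hf hz]
  have h1 := congrFun (Characters.classFunction_expansion hf) z
  simp only [Finset.sum_apply, Pi.smul_apply, smul_eq_mul] at h1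
  rw [h1]
  refine Finset.sum_congr rfl fun ψ _ => ?_
  split_ifs with h
  · rfl
  · rw [hin ψ h, zero_mul]

/-- A class function orthogonal to `U`. -/
theorem dcoef_eq_zero_of_orthogonal [M.IsPrime] (hV : IsPGroup p V) (hM : Cfsg.IsPModular p M)
    (hU : IsBlockUnion M U) (hDZ : ∀ η, Good U V η → DZ p V η) {f : Y → ℂ}
    (hf : Cfsg.IsClassFunction Y f) (hout : ∀ ψ ∈ U, Cfsg.classInner f (ψ : Y → ℂ) = 0)
    {η : IrrCharacter Y} (hη : Good U V η) : dcoef p f η = 0 := by
  classical
  have h := DZ.coeff_eq_zero (V := V) hM (fun ψ => if Good U V ψ then dcoef p f ψ else 0)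
    (fun ψ hψ => hDZ ψ (by by_contra h; exact hψ (if_neg h))) (fun s hs => ?_) η
  · simpa [hη] using h
  · have h0 := sum_union_eq_dcoef hV hM hU hf hs
    rw [Finset.sum_eq_zero fun ψ _ => by
      split_ifs with hh
      · rw [hout ψ hh, zero_mul]
      · rfl] at h0
    refine Eq.trans ?_ h0.symm
    exact Finset.sum_congr rfl fun ψ _ => by split_ifs <;> ring

end CfsgLib.EqualDegree
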