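import Cfsg.Agent.EqualDegree.Traces
import Cfsg.Agent.EqualDegree.Project
import Cfsg.Agent.BlockPairs.ResField
import Cfsg.Agent.BlocksLocal.CentralisingDefect

/-!
# Column sums of a block of equal degrees over a normal p-subgroup

Let all the characters of the block `B` have degree `n`, with `[G : D] = n m` and `p ∤ m`.  The
characters of `B` trivial on `D` take the values `0` and `1` at the primitive idempotents of the
block, on one class each; so each character of `B` has rank one on one class and zero elsewhere,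
and the transfer of a group element along the equivalences acts by the scalar `χ a`.  Hence the
column sums of `B` are divisible by `|D|` in the local ring.
-/

set_option autoImplicit false
set_option linter.style.haveILetI false
set_option linter.unusedSectionVars false
set_option maxHeartbeats 800000

namespace CfsgLib.EqualDegree

open Cfsg CfsgLib.Blocks CfsgLib.Star Polynomial
open scoped ComplexConjugate

universe u

section Linear

variable {W : Type*} [AddCommGroup W] [Module ℂ W] [FiniteDimensional ℂ W]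

theorem isProj_range {P : Module.End ℂ W} (hP : P * P = P) :
    LinearMap.IsProj (LinearMap.range P) P :=
  ⟨fun x => LinearMap.mem_range_self P x, fun x ⟨y, hy⟩ => by
    rw [← hy, ← Module.End.mul_apply, hP]⟩

theorem eq_zero_of_trace_eq_zero {P : Module.End ℂ W} (hP : P * P = P)
    (h : LinearMap.trace ℂ W P = 0) : P = 0 := by
  rw [(isProj_range hP).trace, Nat.cast_eq_zero, Submodule.finrank_eq_zero] at h
  exact LinearMap.range_eq_bot.1 h

theorem mul_mul_eq_trace_smul {P : Module.End ℂ W} (hP : P * P = P)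
    (h : LinearMap.trace ℂ W P = 1) (X : Module.End ℂ W) :
    P * X * P = LinearMap.trace ℂ W (P * X) • P := by
  have hf := h
  rw [(isProj_range hP).trace, Nat.cast_eq_one] at hf
  obtain ⟨⟨v, hv⟩, -, hspan⟩ := finrank_eq_one_iff'.1 hf
  have hall : ∀ x, ∃ c : ℂ, P x = c • v := fun x => by
    obtain ⟨c, hc⟩ := hspan ⟨P x, LinearMap.mem_range_self P x⟩
    exact ⟨c, (congrArg Subtype.val hc).symm⟩
  obtain ⟨c, hc⟩ := hall (X v)
  have e : P * X * P = c • P := by
    refine LinearMap.ext fun x => ?_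
    obtain ⟨d, hd⟩ := hall x
    simp only [Module.End.mul_apply, LinearMap.smul_apply, hd, map_smul, hc]
    rw [smul_comm]
  have ht := congrArg (LinearMap.trace ℂ W) e
  rw [LinearMap.trace_mul_comm, ← mul_assoc, hP, map_smul, h, smul_eq_mul, mul_one] at ht
  rw [e, ht]

end Linear

variable {G : Type u} [Group G] [Fintype G] {p : ℕ} [Fact p.Prime] {M : Ideal AlgInt} [M.IsPrime]
  {D : Subgroup G} [D.Normal] {B : Set (IrrCharacter G)} {n m : ℕ}

theorem rho_smul (r : localRing M) (w : MonoidAlgebra (localRing M) G) :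
    rho M G (r • w) = red M r • rho M G w :=
  BlockPairs.ga_ext fun g => by simp

theorem tau_cycle (η : IrrCharacter G) (X Y : MonoidAlgebra (localRing M) G) :
    tau M (η : G → ℂ) (X * Y) = tau M (η : G → ℂ) (Y * X) :=
  tau_mul_comm (Characters.isClassFunction_of_isIrr η.2) X Y

theorem tau_sandwich (η : IrrCharacter G) {E K : MonoidAlgebra (localRing M) G} (hE : E * E = E)
    (hK : K * K = K) (X Y : MonoidAlgebra (localRing M) G) :
    tau M (η : G → ℂ) (E * X * K * (K * Y * E)) = tau M (η : G → ℂ) (E * X * K * Y) := by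
  calc tau M (η : G → ℂ) (E * X * K * (K * Y * E))
      = tau M (η : G → ℂ) (E * X * (K * K) * Y * E) := by simp only [mul_assoc]
    _ = tau M (η : G → ℂ) (E * (E * X * K * Y)) := by rw [hK, tau_cycle]
    _ = tau M (η : G → ℂ) (E * E * X * K * Y) := by simp only [mul_assoc]
    _ = tau M (η : G → ℂ) (E * X * K * Y) := by rw [hE]

section Good

variable {η : IrrCharacter G} (hη : DZ p D η) (hn : Cfsg.charDegree (η : G → ℂ) = n)
  (hidx : D.index = n * m)
include hη

theorem tau_mul_single_congr (W : MonoidAlgebra (localRing M) G) {y y' : G}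
    (h : (y : G ⧸ D) = y') :
    tau M (η : G → ℂ) (W * MonoidAlgebra.single y 1) =
      tau M (η : G → ℂ) (W * MonoidAlgebra.single y' 1) := by
  induction W using MonoidAlgebra.induction_linear with
  | zero => simp
  | add a c ha hc => rw [add_mul, add_mul, map_add, map_add, ha, hc]
  | single a r =>
    have er : ∀ x : G, MonoidAlgebra.single x r =
        r • MonoidAlgebra.single x (1 : localRing M) := fun x => by simp
    rw [MonoidAlgebra.single_mul_single, MonoidAlgebra.single_mul_single, mul_one, er, er (a * y'),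
      tau_smul, tau_smul, tau_one_mul_single, tau_one_mul_single,
      hη.mk_eq (g := a * y) (g' := a * y') (by rw [QuotientGroup.mk_mul, QuotientGroup.mk_mul, h])]

include hn hidx

omit hη in
theorem card_div : (Nat.card G : ℂ) / (η : G → ℂ) 1 = (Nat.card D : ℂ) * (m : ℂ) := by
  have h1 := Characters.irr_one_ne_zero η.2
  rw [← charDegree_cast, hn] at h1 ⊢
  rw [← Subgroup.card_mul_index D, hidx]
  push_cast
  field_simp

omit hη hn hidx in
theorem sum_cosets [Fintype (G ⧸ D)] (F : G → ℂ)
    (hF : ∀ g g' : G, (g : G ⧸ D) = g' → F g = F g') :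
    ∑ g : G, F g = (Nat.card D : ℂ) * ∑ q : G ⧸ D, F q.out := by
  rw [Finset.sum_congr rfl fun g _ => hF g ((QuotientGroup.mk' D g).out)
      (QuotientGroup.out_eq' _).symm,
    BlocksLocal.sum_comp_surjective (QuotientGroup.mk' D) (QuotientGroup.mk'_surjective D)
      (fun q => F q.out), QuotientGroup.ker_mk']

theorem sum_conj_cosets [Fintype (G ⧸ D)] (X Y : MonoidAlgebra (localRing M) G) :
    ∑ q : G ⧸ D, tau M (η : G → ℂ) (X * MonoidAlgebra.single q.out 1 * Y *
        MonoidAlgebra.single q.out⁻¹ 1) =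
      (m : ℂ) * (tau M (η : G → ℂ) X * tau M (η : G → ℂ) Y) := by
  have h := tau_sum_conj η X Y
  rw [card_div hn hidx, sum_cosets (D := D) (fun g => tau M (η : G → ℂ)
    (X * MonoidAlgebra.single g 1 * Y * MonoidAlgebra.single g⁻¹ 1)) fun g g' hg => ?_,
    mul_assoc] at h
  · exact mul_left_cancel₀ (Nat.cast_ne_zero.2 Nat.card_pos.ne') h
  · rw [tau_mul_single_congr hη _ (y := g⁻¹) (y' := g'⁻¹)
      (by rw [QuotientGroup.mk_inv, QuotientGroup.mk_inv, hg]), mul_assoc (X * _), tau_cycle,
      ← mul_assoc, tau_mul_single_congr hη _ hg, tau_cycle η _ (MonoidAlgebra.single g' 1),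
      ← mul_assoc, ← mul_assoc]
    conv_rhs => rw [mul_assoc (X * _), tau_cycle, ← mul_assoc]
    rw [tau_cycle η _ (MonoidAlgebra.single g' 1), ← mul_assoc, ← mul_assoc]

theorem sum_split_cosets [Fintype (G ⧸ D)] (X Y : MonoidAlgebra (localRing M) G) :
    ∑ q : G ⧸ D, tau M (η : G → ℂ) (X * MonoidAlgebra.single q.out⁻¹ 1) *
        tau M (η : G → ℂ) (MonoidAlgebra.single q.out 1 * Y) =
      (m : ℂ) * tau M (η : G → ℂ) (X * Y) := by
  have h := tau_sum_split η X Y
  rw [card_div hn hidx, sum_cosets (D := D) (fun g => tau M (η : G → ℂ)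
    (X * MonoidAlgebra.single g⁻¹ 1) * tau M (η : G → ℂ) (MonoidAlgebra.single g 1 * Y))
    fun g g' hg => ?_, mul_assoc] at h
  · exact mul_left_cancel₀ (Nat.cast_ne_zero.2 Nat.card_pos.ne') h
  · rw [tau_mul_single_congr hη X (y := g⁻¹) (y' := g'⁻¹)
      (by rw [QuotientGroup.mk_inv, QuotientGroup.mk_inv, hg]),
      tau_cycle η _ Y, tau_cycle η _ Y, tau_mul_single_congr hη Y hg]

end Good

/-- The eigenvalues of an idempotent matrix over the local ring which is of rank one modulo `M`
contain `1` at most once. -/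
theorem trace_le_one {N : Type*} [Fintype N] [DecidableEq N] (T : Matrix N N (localRing M))
    (hT : T * T = T) {r : ℕ} (hr : T.trace = (r : localRing M)) (v w : N → Res M)
    (hvw : T.map (red M) = Matrix.vecMulVec v w) : r ≤ 1 := by
  classical
  set TC := T.map (localRing M).subtype with hTC
  have hTC2 : TC * TC = TC := by rw [hTC, ← Matrix.map_mul, hT]
  have hmem : ∀ l ∈ TC.charpoly.roots, l = 0 ∨ l = 1 := by
    intro l hl
    have hs : l ∈ spectrum ℂ TC :=
      Matrix.mem_spectrum_iff_isRoot_charpoly.2 (isRoot_of_mem_roots hl)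
    have h1 := spectrum.subset_polynomial_aeval TC (X * X - X) ⟨l, hs, rfl⟩
    rcases isEmpty_or_nonempty N with hN | hN
    · exact absurd hs (by simp [spectrum.of_subsingleton])
    · simp only [map_sub, map_mul, aeval_X, hTC2, sub_self, spectrum.zero_eq,
        Set.mem_singleton_iff, eval_sub, eval_mul, eval_X] at h1
      rcases mul_eq_zero.1 (show l * (l - 1) = 0 by linear_combination h1) with h | h
      · exact Or.inl h
      · exact Or.inr (sub_eq_zero.1 h)
  have hsum : ∀ s : Multiset ℂ, (∀ l ∈ s, l = 0 ∨ l = 1) → s.sum = (s.count 1 : ℂ) := by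
    intro s
    induction s using Multiset.induction_on with
    | empty => simp
    | cons a s ih =>
      intro h
      rw [Multiset.sum_cons, ih fun l hl => h l (Multiset.mem_cons_of_mem hl)]
      rcases h a (Multiset.mem_cons_self a s) with rfl | rfl
      · simp
      · simp [add_comm]
  have hcount : TC.charpoly.roots.count 1 = r := by
    have h1 : TC.trace = (r : ℂ) := by
      rw [hTC, ← AddMonoidHom.map_trace, hr]
      simp
    rw [Matrix.trace_eq_sum_roots_charpoly, hsum _ hmem] at h1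
    exact_mod_cast h1
  have hd : (X - C (1 : ℂ)) ^ r ∣ TC.charpoly := by
    rw [← hcount, count_roots]
    exact pow_rootMultiplicity_dvd _ _
  have hd2 : (X - C (1 : localRing M)) ^ r ∣ T.charpoly := by
    refine (Polynomial.map_dvd_map (localRing M).subtype Subtype.val_injective
      ((monic_X_sub_C _).pow r)).1 ?_
    rw [Polynomial.map_pow, Polynomial.map_sub, map_X, map_C, map_one, ← Matrix.charpoly_map]
    exact hd
  have hd3 := Polynomial.map_dvd (red M) hd2
  rw [Polynomial.map_pow, Polynomial.map_sub, map_X, map_C, map_one, ← Matrix.charpoly_map, hvw,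
    Matrix.charpoly_vecMulVec] at hd3
  rcases Nat.eq_zero_or_pos (Fintype.card N) with h0 | h0
  · have hdeg : T.charpoly.natDegree = 0 := by rw [Matrix.charpoly_natDegree_eq_dim, h0]
    have := natDegree_le_of_dvd hd2 (Matrix.charpoly_monic T).ne_zero
    rw [hdeg, natDegree_pow, natDegree_X_sub_C, mul_one] at this
    omega
  obtain ⟨k, hk⟩ := Nat.exists_eq_succ_of_ne_zero h0.ne'
  rw [hk, Nat.succ_sub_one, pow_succ, smul_eq_C_mul] at hd3
  set c := dotProduct v w
  rw [show (X : (Res M)[X]) ^ k * X - C c * X ^ k = X ^ k * (X - C c) by ring] at hd3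
  have hcop : IsCoprime ((X - C (1 : Res M)) ^ r) (X ^ k) := by
    refine IsCoprime.pow ?_
    have := Polynomial.isCoprime_X_sub_C_of_isUnit_sub (a := (1 : Res M)) (b := 0) (by simp)
    simpa using this
  have := natDegree_le_of_dvd (hcop.dvd_of_dvd_mul_left hd3) (X_sub_C_ne_zero c)
  rw [natDegree_pow, natDegree_X_sub_C, natDegree_X_sub_C, mul_one] at this
  exact this

/-- The trivial algebra containing everything. -/
local notation "AA" => (⊤ : Subalgebra (Res M) (BlockPairs.GA (Res M) G))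

section Values

variable (hM : Cfsg.IsPModular p M) {η : IrrCharacter G} (hη : DZ p D η)
  (hn : Cfsg.charDegree (η : G → ℂ) = n) (hidx : D.index = n * m) (hpm : ¬ p ∣ m)
include hM hη hn hidx hpm

theorem tau_prim_le_one {E : MonoidAlgebra (localRing M) G} (hE : E * E = E)
    (hprim : Prim AA (rho M G E)) {e : ℕ} (he : tau M (η : G → ℂ) E = e) : e ≤ 1 := by
  classical
  haveI := BlockPairs.isAlgClosed_res hM
  haveI := Fintype.ofFinite (G ⧸ D)
  have hchar := Characters.isCharacter_of_isIrr η.2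
  set j := rho M G E with hj
  choose rl hrl using fun g : G => red_surjective (M := M)
    (res (Res M) j (j * rho M G (MonoidAlgebra.single g 1) * j))
  have hmod : ∀ g h : G, Cfsg.MemLocalIdeal M
      (tau M (η : G → ℂ) (E * MonoidAlgebra.single g 1 * E * (E * MonoidAlgebra.single h 1 * E))
        - (rl g : ℂ) * rl h * e) := by
    intro g h
    have hc : ∀ g, InCorner AA j j (j * rho M G (MonoidAlgebra.single g 1) * j) := fun g =>
      InCorner.mk' hprim.2.1 hprim.2.1 hprim.1 hprim.1 Algebra.mem_top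
    have hnil : IsNilpotent (rho M G (E * MonoidAlgebra.single g 1 * E *
        (E * MonoidAlgebra.single h 1 * E) - (rl g * rl h) • E)) := by
      rw [map_sub, rho_smul, map_mul, map_mul, map_mul, map_mul, map_mul, map_mul, hrl, hrl,
        ← hprim.res_mul (hc g) (hc h)]
      exact hprim.res_spec ((hc g).mul (hc h))
    have := tau_mem_of_nilpotent hchar hnil
    rwa [map_sub, tau_smul, he, Subring.coe_mul] at this
  obtain ⟨minv, hminv⟩ : ∃ a : localRing M, (a : ℂ) = (m : ℂ)⁻¹ :=
    ⟨⟨_, memLocalRing_natCast_inv hM hpm⟩, rfl⟩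
  let F : G ⧸ D → G ⧸ D → localRing M := fun q t =>
    ⟨tau M (η : G → ℂ) (E * MonoidAlgebra.single q.out 1 * E * MonoidAlgebra.single t.out⁻¹ 1),
      memLocalRing_tau hchar _⟩
  let T : Matrix (G ⧸ D) (G ⧸ D) (localRing M) := Matrix.of fun q t => minv * F q t
  have hT : ∀ q t, T q t = minv * F q t := fun _ _ => rfl
  have hTc : ∀ q t, ((T q t : localRing M) : ℂ) = (m : ℂ)⁻¹ * tau M (η : G → ℂ)
      (E * MonoidAlgebra.single q.out 1 * E * MonoidAlgebra.single t.out⁻¹ 1) := fun q t => by
    rw [hT, Subring.coe_mul, hminv]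
  have hm0 : (m : ℂ) ≠ 0 := Nat.cast_ne_zero.2 fun h0 => hpm (h0 ▸ dvd_zero p)
  have hTT : T * T = T := by
    refine Matrix.ext fun q r => Subtype.ext ?_
    rw [Matrix.mul_apply, AddSubmonoidClass.coe_finsetSum, hTc]
    simp only [Subring.coe_mul, hTc]
    rw [Finset.sum_congr rfl (g := fun t : G ⧸ D => (m : ℂ)⁻¹ * (m : ℂ)⁻¹ *
      (tau M (η : G → ℂ) (E * MonoidAlgebra.single q.out 1 * E * MonoidAlgebra.single t.out⁻¹ 1) *
        tau M (η : G → ℂ) (MonoidAlgebra.single t.out 1 *
          (E * MonoidAlgebra.single r.out⁻¹ 1 * E)))) fun t _ => ?_,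
      ← Finset.mul_sum, sum_split_cosets hη hn hidx]
    · rw [tau_sandwich η hE hE]
      field_simp
    · rw [show tau M (η : G → ℂ) (MonoidAlgebra.single t.out 1 *
          (E * MonoidAlgebra.single r.out⁻¹ 1 * E)) =
        tau M (η : G → ℂ) (E * MonoidAlgebra.single t.out 1 * E *
          MonoidAlgebra.single r.out⁻¹ 1) by
        rw [← mul_assoc, ← mul_assoc, tau_cycle η _ E, ← mul_assoc, ← mul_assoc]]
      ring
  have htr : T.trace = ((e * e : ℕ) : localRing M) := by
    refine Subtype.ext ?_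
    simp only [Matrix.trace, Matrix.diag, AddSubmonoidClass.coe_finsetSum, hTc]
    rw [← Finset.mul_sum, sum_conj_cosets hη hn hidx, he]
    push_cast
    field_simp
  have hvw : T.map (red M) = Matrix.vecMulVec
      (fun q => red M minv * red M (e : localRing M) * red M (rl q.out))
      (fun t => red M (rl t.out⁻¹)) := by
    refine Matrix.ext fun q t => ?_
    rw [Matrix.map_apply, Matrix.vecMulVec_apply, hT, map_mul]
    have h1 : red M (F q t) = red M (rl q.out * rl t.out⁻¹ * (e : localRing M)) := by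
      refine red_eq_red_iff.2 ?_
      have h2 := hmod q.out t.out⁻¹
      rw [tau_sandwich η hE hE] at h2
      simpa [F] using h2
    rw [h1, map_mul, map_mul]
    ring
  have h := trace_le_one T hTT htr _ _ hvw
  nlinarith

theorem eqv_of_tau_eq_one {Ei Ek : MonoidAlgebra (localRing M) G} (hi : Ei * Ei = Ei)
    (hk : Ek * Ek = Ek) (hpi : Prim AA (rho M G Ei)) (hpk : Prim AA (rho M G Ek))
    (h1 : tau M (η : G → ℂ) Ei = 1) (h2 : tau M (η : G → ℂ) Ek = 1) :
    Eqv AA (rho M G Ei) (rho M G Ek) := by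
  classical
  haveI := BlockPairs.isAlgClosed_res hM
  haveI := Fintype.ofFinite (G ⧸ D)
  by_contra hne
  have hmem : ∀ q : G ⧸ D, Cfsg.MemLocalIdeal M (tau M (η : G → ℂ)
      (Ei * MonoidAlgebra.single q.out 1 * Ek * MonoidAlgebra.single q.out⁻¹ 1)) := by
    intro q
    set x := rho M G Ei * rho M G (MonoidAlgebra.single q.out 1) * rho M G Ek
    set y := rho M G Ek * rho M G (MonoidAlgebra.single q.out⁻¹ 1) * rho M G Ei
    have hx : InCorner AA (rho M G Ei) (rho M G Ek) x :=
      InCorner.mk' hpi.2.1 hpk.2.1 hpi.1 hpk.1 Algebra.mem_top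
    have hy : InCorner AA (rho M G Ek) (rho M G Ei) y :=
      InCorner.mk' hpk.2.1 hpi.2.1 hpk.1 hpi.1 Algebra.mem_top
    have h0 : res (Res M) (rho M G Ei) (x * y) = 0 :=
      not_not.1 fun h => hne (eqv_of_res_ne hpi hpk hx hy h)
    have hnil : IsNilpotent (x * y) := by
      have := hpi.res_spec (hx.mul hy)
      rwa [h0, zero_smul, sub_zero] at this
    have h3 := tau_mem_of_nilpotent (Characters.isCharacter_of_isIrr η.2)
      (w := Ei * MonoidAlgebra.single q.out 1 * Ek * (Ek * MonoidAlgebra.single q.out⁻¹ 1 * Ei))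
      (by simp only [map_mul]; exact hnil)
    rw [tau_sandwich η hi hk] at h3
    exact h3
  have h4 := memLocalIdeal_sum Finset.univ fun q (_ : q ∈ Finset.univ) => hmem q
  rw [sum_conj_cosets hη hn hidx, h1, h2, mul_one, mul_one, memLocalIdeal_natCast_iff hM] at h4
  exact hpm h4

end Values

open Classical in
/-- The column sums of a block of equal degrees are divisible by `|D|`. -/
theorem memLocalRing_column_sum (hM : Cfsg.IsPModular p M) (hB : Cfsg.IsPBlock M B)
    (hDp : IsPGroup p D) (hdeg : ∀ χ ∈ B, Cfsg.charDegree (χ : G → ℂ) = n)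
    (hidx : D.index = n * m) (hpm : ¬ p ∣ m) (a y : G) :
    Cfsg.MemLocalRing M ((Nat.card D : ℂ)⁻¹ * ∑ χ : IrrCharacter G,
      if χ ∈ B then (χ : G → ℂ) a * conj ((χ : G → ℂ) y) else 0) := by
  haveI := BlockPairs.isAlgClosed_res hM
  have hn0 : n ≠ 0 := by
    obtain ⟨χ, hχ⟩ := isPBlock_nonempty hB
    exact hdeg χ hχ ▸ charDegree_ne_zero χ
  have hU := isBlockUnion_of_isPBlock hB
  have hDZ : ∀ η, Good B D η → DZ p D η := fun η hη => ⟨hη.2, by
    rw [hdeg η hη.1, hidx, Nat.factorization_mul hn0 (fun h : m = 0 => hpm (h ▸ dvd_zero p)),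
      Finsupp.add_apply, Nat.factorization_eq_zero_of_not_dvd hpm, add_zero]⟩
  set eO := setIdemO M B (memLocalRing_blockCoeff hU) with heO
  set ê : MonoidAlgebra (localRing M) G := eO.1 with hê
  have hee : ê * ê = ê := congrArg Subtype.val
    (show eO * eO = eO from ctr_ext_omegaO fun ψ => by
      rw [map_mul, heO, omegaO_setIdemO]; split_ifs <;> simp)
  have hev : ∀ (χ : IrrCharacter G) (w : MonoidAlgebra (localRing M) G),
      tau M (χ : G → ℂ) (ê * w) = if χ ∈ B then tau M (χ : G → ℂ) w else 0 := by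
    intro χ w
    rw [tau_eq_evalFun, map_mul, show toCA M ê = ((setIdemC B : Ctr ℂ G) : MonoidAlgebra ℂ G) from
      congrArg Subtype.val (toC_setIdemO B (memLocalRing_blockCoeff hU)), evalFun_central_mul,
      omega_setIdemC, tau_eq_evalFun]
    split_ifs <;> simp
  have hone : ∀ χ : IrrCharacter G, tau M (χ : G → ℂ) ê = if χ ∈ B then (χ : G → ℂ) 1 else 0 := by
    intro χ
    rw [← mul_one ê, hev, MonoidAlgebra.one_def, tau_one_mul_single]
  obtain ⟨s, hs⟩ := exists_decomp (A := AA) (j := rho M G ê) Algebra.mem_top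
    (by rw [← map_mul, hee])
  obtain ⟨E, hE1, hE2, hE3⟩ := exists_orth_lift s ê hee (fun i hi => (hs.1 i hi).2.1) hs.2.1 hs.2.2
  have hprim : ∀ i ∈ s, Prim AA (rho M G (E i)) := fun i hi => by
    rw [(hE1 i hi).2.1]; exact hs.1 i hi
  have heqvtau : ∀ (f : IrrCharacter G), ∀ i ∈ s, ∀ k ∈ s, Eqv AA i k →
      tau M (f : G → ℂ) (E i) = tau M (f : G → ℂ) (E k) := by
    intro f i hi k hk hik
    obtain ⟨U, V, hUV, hVU, -⟩ := exists_eqv_lift (hE1 i hi).1 (hE1 k hk).1
      (by rw [(hE1 i hi).2.1, (hE1 k hk).2.1]; exact hik)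
    rw [← hUV, ← hVU, tau_cycle]
  have hnat : ∀ (f : IrrCharacter G) (i), i ∈ s → ∃ e : ℕ, tau M (f : G → ℂ) (E i) = e := by
    intro f i hi
    rw [tau_eq_evalFun]
    exact evalFun_idem_eq_nat (Characters.isCharacter_of_isIrr f.2)
      (by rw [← map_mul, (hE1 i hi).1])
  choose δ hδ using hnat
  have hval : ∀ η, Good B D η → ∀ i (hi : i ∈ s), δ η i hi ≤ 1 := fun η hη i hi =>
    tau_prim_le_one hM (hDZ η hη) (hdeg η hη.1) hidx hpm (hE1 i hi).1 (hprim i hi) (hδ η i hi)
  have hcount : ∀ η, Good B D η → ∀ i ∈ s, tau M (η : G → ℂ) (E i) = 1 →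
      (s.filter (Eqv AA i)).card = n := by
    intro η hη i hi h1
    have hterm : ∀ k ∈ s, tau M (η : G → ℂ) (E k) = if Eqv AA i k then 1 else 0 := by
      intro k hk
      split_ifs with hik
      · rw [← heqvtau η i hi k hk hik, h1]
      · have := hval η hη k hk
        rcases Nat.le_one_iff_eq_zero_or_eq_one.1 this with h0 | h0
        · rw [hδ η k hk, h0, Nat.cast_zero]
        · refine absurd ?_ hik
          have h2 : tau M (η : G → ℂ) (E k) = 1 := by rw [hδ η k hk, h0, Nat.cast_one]
          have := eqv_of_tau_eq_one hM (hDZ η hη) (hdeg η hη.1) hidx hpm (hE1 i hi).1 (hE1 k hk).1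
            (hprim i hi) (hprim k hk) h1 h2
          rwa [(hE1 i hi).2.1, (hE1 k hk).2.1] at this
    have h3 : ∑ k ∈ s, tau M (η : G → ℂ) (E k) = (n : ℂ) := by
      rw [← map_sum, hE3, hone, if_pos hη.1, ← charDegree_cast, hdeg η hη.1]
    rw [Finset.sum_congr rfl hterm, Finset.sum_boole] at h3
    exact_mod_cast h3
  have hdec : ∀ χ : IrrCharacter G, χ ∈ B → ∀ i ∈ s, tau M (χ : G → ℂ) (E i) =
      ∑ η, if Good B D η then dcoef p (χ : G → ℂ) η * tau M (η : G → ℂ) (E i) else 0 := by
    intro χ hχ i hi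
    set θ : G → ℂ := fun g => (χ : G → ℂ) g -
      ∑ η, if Good B D η then dcoef p (χ : G → ℂ) η * (η : G → ℂ) g else 0 with hθ
    have h0 := BlocksLocal.sum_coeff_mul_eq_zero_of_idempotent hM (E i) (hE1 i hi).1 θ
      (fun g h => by
        simp only [hθ, Characters.isClassFunction_of_isIrr χ.2 g h]
        congr 1
        exact Finset.sum_congr rfl fun η _ => by rw [Characters.isClassFunction_of_isIrr η.2 g h])
      (fun g hg => sub_eq_zero.2 (eq_sum_good hDp hM hU (Characters.isClassFunction_of_isIrr χ.2)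
        (fun ψ hψ => by
          rw [Characters.classInner_irr, if_neg fun e => hψ (by rw [← e]; exact hχ)]) hg))
    rw [← tau_apply] at h0
    rw [← sub_eq_zero]
    refine Eq.trans ?_ h0
    simp only [tau_apply, hθ, mul_sub, Finset.sum_sub_distrib, Finset.mul_sum]
    congr 1
    rw [Finset.sum_comm]
    refine Finset.sum_congr rfl fun g _ => ?_
    split_ifs <;> simp [Finset.mul_sum, mul_left_comm]
  have hrank : ∀ χ : IrrCharacter G, χ ∈ B → ∀ i ∈ s, tau M (χ : G → ℂ) (E i) ≠ 0 →
      tau M (χ : G → ℂ) (E i) = 1 ∧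
        ∀ k ∈ s, ¬ Eqv AA i k → tau M (χ : G → ℂ) (E k) = 0 := by
    intro χ hχ i hi hne
    obtain ⟨η, hη, hη1⟩ : ∃ η, Good B D η ∧ tau M (η : G → ℂ) (E i) = 1 := by
      by_contra! hno
      refine hne ?_
      rw [hdec χ hχ i hi]
      refine Finset.sum_eq_zero fun η _ => ?_
      split_ifs with hη
      · rcases Nat.le_one_iff_eq_zero_or_eq_one.1 (hval η hη i hi) with h0 | h0
        · rw [hδ η i hi, h0, Nat.cast_zero, mul_zero]
        · exact absurd (by rw [hδ η i hi, h0, Nat.cast_one]) (hno η hη)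
      · rfl
    have hd0 : δ χ i hi ≠ 0 := fun h => hne (by rw [hδ χ i hi, h, Nat.cast_zero])
    let f : BlockPairs.GA (Res M) G → ℕ := fun k => if hk : k ∈ s then δ χ k hk else 0
    have hf : ∀ k ∈ s, tau M (χ : G → ℂ) (E k) = (f k : ℂ) := fun k hk => by
      simp only [f, dif_pos hk]; exact hδ χ k hk
    have htot : ∑ k ∈ s, f k = n := by
      apply Nat.cast_injective (R := ℂ)
      push_cast
      rw [← Finset.sum_congr rfl hf, ← map_sum, hE3, hone, if_pos hχ, ← charDegree_cast,
        hdeg χ hχ]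
    have hin : ∀ k ∈ s.filter (Eqv AA i), f k = f i := fun k hk => by
      obtain ⟨hk, hik⟩ := Finset.mem_filter.1 hk
      exact Nat.cast_injective (R := ℂ) (by rw [← hf k hk, ← hf i hi, heqvtau χ i hi k hk hik])
    rw [← Finset.sum_filter_add_sum_filter_not s (Eqv AA i), Finset.sum_congr rfl hin,
      Finset.sum_const, hcount η hη i hi hη1, smul_eq_mul] at htot
    have hfi : 1 ≤ f i := by
      simp only [f, dif_pos hi]
      omega
    have hle : n ≤ n * f i := Nat.le_mul_of_pos_right n hfi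
    have hrest : ∑ k ∈ s.filter (fun k => ¬ Eqv AA i k), f k = 0 := by omega
    have hfi1 : f i = 1 := Nat.eq_of_mul_eq_mul_left (Nat.pos_of_ne_zero hn0) (by omega)
    refine ⟨by rw [hf i hi, hfi1, Nat.cast_one], fun k hk hik => ?_⟩
    rw [hf k hk, Finset.sum_eq_zero_iff.1 hrest k (Finset.mem_filter.2 ⟨hk, hik⟩), Nat.cast_zero]
  have hUV : ∀ i k : BlockPairs.GA (Res M) G, ∃ U V : MonoidAlgebra (localRing M) G,
      i ∈ s → k ∈ s → Eqv AA i k → U * V = E i ∧ V * U = E k ∧ E i * U = U ∧ U * E k = U ∧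
        E k * V = V ∧ V * E i = V := by
    intro i k
    by_cases h : i ∈ s ∧ k ∈ s ∧ Eqv AA i k
    · obtain ⟨U, V, hh⟩ := exists_eqv_lift (hE1 i h.1).1 (hE1 k h.2.1).1
        (by rw [(hE1 i h.1).2.1, (hE1 k h.2.1).2.1]; exact h.2.2)
      exact ⟨U, V, fun _ _ _ => hh⟩
    · exact ⟨0, 0, fun a c d => absurd ⟨a, c, d⟩ h⟩
  choose U V hUV using hUV
  set z := ∑ i ∈ s, ∑ k ∈ s.filter (Eqv AA i), U i k * MonoidAlgebra.single a 1 * V i k with hz
  have hact : ∀ χ : IrrCharacter G, χ ∈ B → ∀ y : G,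
      tau M (χ : G → ℂ) (z * MonoidAlgebra.single y 1) = (χ : G → ℂ) a * (χ : G → ℂ) y := by
    intro χ hχ y
    obtain ⟨k₀, ρ, -, hρ⟩ := χ.2
    let Φ : MonoidAlgebra (localRing M) G →+* Module.End ℂ (Fin k₀ → ℂ) :=
      ρ.asAlgebraHom.toRingHom.comp (toCA M)
    have htr : ∀ w, LinearMap.trace ℂ (Fin k₀ → ℂ) (Φ w) = tau M (χ : G → ℂ) w := fun w => by
      rw [tau_eq_evalFun, ← hρ]
      exact trace_asAlgebraHom ρ (toCA M w)
    have hPP : ∀ i ∈ s, Φ (E i) * Φ (E i) = Φ (E i) := fun i hi => by rw [← map_mul, (hE1 i hi).1]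
    have hzero : ∀ i ∈ s, tau M (χ : G → ℂ) (E i) = 0 → Φ (E i) = 0 := fun i hi h =>
      eq_zero_of_trace_eq_zero (hPP i hi) (by rw [htr, h])
    have hê1 : Φ ê = 1 := by
      refine (sub_eq_zero.1 (eq_zero_of_trace_eq_zero (P := 1 - Φ ê) ?_ ?_)).symm
      · have : Φ ê * Φ ê = Φ ê := by rw [← map_mul, hee]
        rw [sub_mul, mul_sub, mul_sub, this, one_mul, one_mul, mul_one]; abel
      · rw [← map_one Φ, map_sub, htr, htr, hone, if_pos hχ, MonoidAlgebra.one_def,
          tau_one_mul_single, sub_self]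
    have hzΦ : Φ z = (χ : G → ℂ) a • 1 := by
      rw [← hê1, ← hE3, hz, map_sum, map_sum, Finset.smul_sum]
      refine Finset.sum_congr rfl fun i hi => ?_
      rw [map_sum]
      by_cases h0 : tau M (χ : G → ℂ) (E i) = 0
      · rw [hzero i hi h0, smul_zero]
        refine Finset.sum_eq_zero fun k hk => ?_
        obtain ⟨hk, hik⟩ := Finset.mem_filter.1 hk
        rw [← (hUV i k hi hk hik).2.2.1, map_mul, map_mul, map_mul, hzero i hi h0, zero_mul,
          zero_mul, zero_mul]
      obtain ⟨h1, hrest⟩ := hrank χ hχ i hi h0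
      have hterm : ∀ k ∈ s.filter (Eqv AA i),
          Φ (U i k * MonoidAlgebra.single a 1 * V i k) =
            LinearMap.trace ℂ (Fin k₀ → ℂ) (Φ (E k) * Φ (MonoidAlgebra.single a 1)) • Φ (E i) := by
        intro k hk
        obtain ⟨hk, hik⟩ := Finset.mem_filter.1 hk
        obtain ⟨hUVi, -, -, hUk, hkV, -⟩ := hUV i k hi hk hik
        have hk1 : LinearMap.trace ℂ (Fin k₀ → ℂ) (Φ (E k)) = 1 := by
          rw [htr, ← heqvtau χ i hi k hk hik, h1]
        conv_lhs => rw [← hUk, ← hkV]
        calc Φ (U i k * E k * MonoidAlgebra.single a 1 * (E k * V i k))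
            = Φ (U i k) * (Φ (E k) * Φ (MonoidAlgebra.single a 1) * Φ (E k)) * Φ (V i k) := by
              simp only [map_mul, mul_assoc]
          _ = LinearMap.trace ℂ (Fin k₀ → ℂ) (Φ (E k) * Φ (MonoidAlgebra.single a 1)) •
                Φ (U i k * E k * V i k) := by
              rw [mul_mul_eq_trace_smul (hPP k hk) hk1, mul_smul_comm, smul_mul_assoc, map_mul Φ,
                map_mul Φ]
          _ = _ := by rw [hUk, hUVi]
      rw [Finset.sum_congr rfl hterm, ← Finset.sum_smul, ← map_sum, ← Finset.sum_mul]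
      congr 1
      have hsum1 : ∑ k ∈ s.filter (Eqv AA i), Φ (E k) = 1 := by
        rw [Finset.sum_filter, ← hê1, ← hE3, map_sum]
        refine Finset.sum_congr rfl fun k hk => ?_
        split_ifs with hik
        · rfl
        · exact (hzero k hk (hrest k hk hik)).symm
      rw [hsum1, one_mul, htr, tau_one_mul_single]
    rw [← htr, map_mul, hzΦ, smul_mul_assoc, one_mul, map_smul, htr, tau_one_mul_single,
      smul_eq_mul]
  clear_value z
  have hcoef : ((ê * z).coeff y : ℂ) = (Nat.card G : ℂ)⁻¹ * ((n : ℂ) * ∑ χ : IrrCharacter G,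
      if χ ∈ B then (χ : G → ℂ) a * conj ((χ : G → ℂ) y) else 0) := by
    have h1 : ∑ χ : IrrCharacter G,
        (χ : G → ℂ) 1 * tau M (χ : G → ℂ) (ê * z * MonoidAlgebra.single y⁻¹ 1) =
        ((ê * z).coeff y : ℂ) * (Nat.card G : ℂ) := by
      simp only [tau_apply, Finset.mul_sum]
      rw [Finset.sum_comm, Finset.sum_eq_single (1 : G)]
      · rw [Finset.sum_congr rfl fun (χ : IrrCharacter G) _ => mul_left_comm _ _ _,
          ← Finset.mul_sum, Characters.sum_degree_mul, if_pos rfl]
        simp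
      · intro g _ hg
        rw [Finset.sum_congr rfl fun (χ : IrrCharacter G) _ => mul_left_comm _ _ _,
          ← Finset.mul_sum, Characters.sum_degree_mul, if_neg hg, mul_zero]
      · simp
    rw [eq_inv_mul_iff_mul_eq₀ Characters.natCard_ne_zero, mul_comm (Nat.card G : ℂ)]
    refine h1.symm.trans ?_
    rw [Finset.mul_sum]
    refine Finset.sum_congr rfl fun χ _ => ?_
    rw [mul_assoc ê, hev]
    split_ifs with hχ
    · rw [hact χ hχ, ← charDegree_cast, hdeg χ hχ,
        Characters.character_inv (Characters.isCharacter_of_isIrr χ.2)]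
    · rw [mul_zero, mul_zero]
  have key : (Nat.card D : ℂ)⁻¹ * (∑ χ : IrrCharacter G,
      if χ ∈ B then (χ : G → ℂ) a * conj ((χ : G → ℂ) y) else 0) =
      (m : ℂ) * ((ê * z).coeff y : ℂ) := by
    have h2 : (Nat.card D : ℂ) ≠ 0 := Nat.cast_ne_zero.2 Nat.card_pos.ne'
    have h3 : (n : ℂ) ≠ 0 := Nat.cast_ne_zero.2 hn0
    have h4 : (m : ℂ) ≠ 0 := Nat.cast_ne_zero.2 fun h => hpm (h ▸ dvd_zero p)
    rw [hcoef, ← Subgroup.card_mul_index D, hidx]
    push_cast
    field_simp
  rw [key]
  exact Subring.mul_mem (localRing M) (memLocalRing_natCast m) ((ê * z).coeff y).2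

end CfsgLib.EqualDegree
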