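import Cfsg.Agent.EqualDegree.Sections
import Cfsg.Agent.EqualDegree.Casimir

/-!
# Equal degrees over an abelian normal defect group

If all characters of a block with abelian normal defect group `D` have the same degree, every
element fixing a character of `D C(D)` trivial on `D` under the block centralizes `D`: the block
has `|D|` characters, and summing `|χ g|²` section by section gives `|G| |D|` below the fixed
points of the centralizers of the elements of `D`, which is only possible if these are all fixed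
points.
-/

set_option autoImplicit false
set_option linter.style.haveILetI false
set_option linter.unusedSectionVars false
set_option maxHeartbeats 400000

namespace CfsgLib.EqualDegree

open Cfsg CfsgLib.Blocks CfsgLib.BlocksLocal CfsgLib.OddOrderChar CfsgLib.CharactersDeep.Clifford
  CfsgLib.Star
open scoped ComplexConjugate

universe u

variable {G : Type u} [Group G] [Fintype G] {p : ℕ} [Fact p.Prime] {M : Ideal AlgInt} [M.IsPrime]
  {B : Set (IrrCharacter G)} {D : Subgroup G} [D.Normal]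

local notation "LL" => D ⊔ Subgroup.centralizer (D : Set G)

variable [Fintype ↥(D ⊔ Subgroup.centralizer (D : Set G))]
  {b : Set (IrrCharacter ↥(D ⊔ Subgroup.centralizer (D : Set G)))} {n : ℕ}

namespace Setting

variable (h : Setting p M B D b) (hdeg : ∀ χ ∈ B, Cfsg.charDegree (χ : G → ℂ) = n)
include h

open Classical in
theorem sum_fixers_le : ∑ θ : IrrCharacter ↥LL, (if θ ∈ Om D b then
    (Finset.univ.filter fun g : G => conjIrr LL θ g = θ).card else 0) ≤ Nat.card G := by
  obtain ⟨θ₀, -, -, -, hall⟩ := h.exists_theta0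
  have hex : ∀ θ, ∃ t : G, θ ∈ Om D b → θ = conjIrr LL θ₀ t := by
    intro θ
    by_cases hθ : θ ∈ Om D b
    · obtain ⟨g, hg⟩ := hall θ hθ
      exact ⟨g, fun _ => hg⟩
    · exact ⟨1, fun h' => absurd h' hθ⟩
  choose t ht using hex
  rw [← Finset.sum_filter, ← Finset.card_sigma, Nat.card_eq_fintype_card, ← Finset.card_univ]
  refine Finset.card_le_card_of_injOn (fun z => t z.1 * z.2) (fun z _ => Finset.mem_univ _) ?_
  rintro ⟨θ, g⟩ hz ⟨θ', g'⟩ hz' e
  simp only [Finset.mem_coe, Finset.mem_sigma, Finset.mem_filter, Finset.mem_univ, true_and]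
    at hz hz'
  have e' : t θ * g = t θ' * g' := e
  have h1 : conjIrr LL θ₀ (t θ * g) = θ := by rw [← conjIrr_mul, ← ht θ hz.1, hz.2]
  have h2 : conjIrr LL θ₀ (t θ' * g') = θ' := by rw [← conjIrr_mul, ← ht θ' hz'.1, hz'.2]
  have hθ : θ = θ' := by rw [← h1, e', h2]
  subst hθ
  rw [mul_left_cancel e']

include hdeg

theorem exists_cofactor : ∃ m : ℕ, D.index = n * m ∧ ¬ p ∣ m := by
  obtain ⟨χ, hχ⟩ := isPBlock_nonempty h.hB
  obtain ⟨d, hd, hdvd⟩ := GaloisAverage.exists_degree_dvd_index χ.2 D h.ab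
  rw [← charDegree_cast χ, Nat.cast_inj, hdeg χ hχ] at hd
  subst hd
  obtain ⟨m, hm⟩ := hdvd
  refine ⟨m, hm, fun hpm => ?_⟩
  have hm0 : m ≠ 0 := fun h0 => Subgroup.index_ne_zero_of_finite (H := D) (by rw [hm, h0, mul_zero])
  have hn0 : n ≠ 0 := fun h0 => Subgroup.index_ne_zero_of_finite (H := D) (by rw [hm, h0, zero_mul])
  have h1 := defect_add_degree_ge h.hM h.hB h.hD hχ
  rw [hdeg χ hχ, ← Subgroup.card_mul_index D, hm, Nat.factorization_mul Nat.card_pos.ne'
    (mul_ne_zero hn0 hm0), Finsupp.add_apply, Nat.factorization_mul hn0 hm0, Finsupp.add_apply] at h1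
  have := Nat.Prime.factorization_pos_of_dvd (Fact.out : p.Prime) hm0 hpm
  omega

theorem column_sum (x y : G) : Cfsg.MemLocalRing M ((Nat.card D : ℂ)⁻¹ *
    ∑ χ : IrrCharacter G,
      (open Classical in if χ ∈ B then (χ : G → ℂ) x * conj ((χ : G → ℂ) y) else 0)) := by
  obtain ⟨m, hm, hpm⟩ := h.exists_cofactor hdeg
  exact memLocalRing_column_sum h.hM h.hB h.isP hdeg hm hpm x y

theorem good_DZ_top {η : IrrCharacter G} (hη : Good B D η) : DZ p D η := by
  obtain ⟨m, hm, hpm⟩ := h.exists_cofactor hdeg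
  refine ⟨hη.2, ?_⟩
  have hn0 : n ≠ 0 := hdeg η hη.1 ▸ charDegree_ne_zero η
  rw [hdeg η hη.1, hm, Nat.factorization_mul hn0 (fun h0 : m = 0 => hpm (h0 ▸ dvd_zero p)),
    Finsupp.add_apply, Nat.factorization_eq_zero_of_not_dvd hpm, add_zero]

open Classical in
theorem top_contribution {η : IrrCharacter G} (hη : Good B D η) :
    (∑ χ : IrrCharacter G, dcoef p (χ : G → ℂ) η * conj (dcoef p (χ : G → ℂ) η)) =
        (Nat.card D : ℂ) ∧
      (∀ χ : IrrCharacter G, χ ∉ B → dcoef p (χ : G → ℂ) η = 0) ∧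
      ∀ g : G, g ∉ LL → (η : G → ℂ) g = 0 := by
  have hout : ∀ χ : IrrCharacter G, χ ∉ B → dcoef p (χ : G → ℂ) η = 0 := fun χ hχ =>
    dcoef_eq_zero_of_orthogonal h.isP h.hM (isBlockUnion_of_isPBlock h.hB)
      (fun _ hg => h.good_DZ_top hdeg hg) (Characters.isClassFunction_of_isIrr χ.2)
      (fun ψ hψ => by rw [Characters.classInner_irr, if_neg fun e => hχ (by rw [e]; exact hψ)]) hη
  obtain ⟨h1, h2⟩ := contribution_eq h.isP h.ab h.hM (h.good_DZ_top hdeg hη)
    (fun χ : IrrCharacter G => (χ : G → ℂ)) (fun χ => Characters.isClassFunction_of_isIrr χ.2)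
    (fun s s' _ _ => Characters.sum_irr_mul_conj s s') B hout (h.column_sum hdeg)
  exact ⟨h1, hout, fun g hg => h2 g fun hc => hg (Subgroup.mem_sup_right hc)⟩

theorem good_covers {η : IrrCharacter G} (hη : Good B D η) {θ₀ : IrrCharacter ↥LL}
    (hall : ∀ ω ∈ Om D b, ∃ g : G, ω = conjIrr LL θ₀ g) :
    Cfsg.classInner (fun l : ↥LL => (η : G → ℂ) l) (θ₀ : ↥LL → ℂ) ≠ 0 := by
  obtain ⟨θ, hθ⟩ := exists_constituent (LL) η
  have hΩ : θ ∈ Om D b := ⟨h.constituent_mem hη.1 hθ, fun x hx =>
    Broline73.apply_eq_one_of_constituent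
      (Characters.isCharacter_restrict LL (Characters.isCharacter_of_isIrr η.2)) θ hθ
      (by show (η : G → ℂ) (x : G) = (η : G → ℂ) ((1 : ↥LL) : G)
          rw [hη.2 _ hx]; rfl)⟩
  obtain ⟨g, rfl⟩ := hall θ hΩ
  rwa [coe_conjIrr, classInner_restrict_conjBy LL (Characters.isClassFunction_of_isIrr η.2)] at hθ

open Classical in
theorem exists_good : ∃ η : IrrCharacter G, Good B D η ∧ (∀ η', Good B D η' → η' = η) ∧
    ∀ χ ∈ B, dcoef p (χ : G → ℂ) η = 1 := by
  obtain ⟨χ, hχ⟩ := isPBlock_nonempty h.hB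
  have hexp : ∀ χ ∈ B, (n : ℂ) =
      ∑ η, if Good B D η then dcoef p (χ : G → ℂ) η * (n : ℂ) else 0 := by
    intro χ hχ
    have h1 := eq_sum_good (f := (χ : G → ℂ)) (z := 1) h.isP h.hM (isBlockUnion_of_isPBlock h.hB)
      (Characters.isClassFunction_of_isIrr χ.2) (fun ψ hψ => by
        rw [Characters.classInner_irr, if_neg fun e => hψ (by rw [← e]; exact hχ)])
      (V := D) (by rw [orderOf_one]; exact (Fact.out : p.Prime).not_dvd_one)
    rw [← charDegree_cast, hdeg χ hχ] at h1
    refine h1.trans (Finset.sum_congr rfl fun η _ => ?_)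
    split_ifs with hη
    · rw [← charDegree_cast, hdeg η hη.1]
    · rfl
  have hn0 : (n : ℂ) ≠ 0 := Nat.cast_ne_zero.2 (hdeg χ hχ ▸ charDegree_ne_zero χ)
  obtain ⟨η, hη⟩ : ∃ η, Good B D η := by
    by_contra! hno
    exact hn0 ((hexp χ hχ).trans (Finset.sum_eq_zero fun η _ => if_neg (hno η)))
  obtain ⟨θ₀, -, -, -, hall⟩ := h.exists_theta0
  have huniq : ∀ η', Good B D η' → η' = η := by
    intro η' hη'
    by_contra hne
    have hz : Cfsg.classInner (fun l : ↥LL => (η' : G → ℂ) l) (fun l : ↥LL => (η : G → ℂ) l) = 0 := by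
      rw [Cfsg.classInner]
      refine mul_eq_zero_of_right _ ?_
      have e : ∑ l : ↥LL, (η' : G → ℂ) l * conj ((η : G → ℂ) l) =
          ∑ g : G, (η' : G → ℂ) g * conj ((η : G → ℂ) g) :=
        Fintype.sum_of_injective (fun l : ↥LL => (l : G)) Subtype.val_injective _ _
          (fun g hg => by
            rw [(h.top_contribution hdeg hη').2.2 g fun hgl => hg ⟨⟨g, hgl⟩, rfl⟩, zero_mul])
          fun l => rfl
      have h1 := Characters.classInner_irr η' η
      rw [if_neg hne, Cfsg.classInner, mul_eq_zero] at h1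
      rw [e]
      exact h1.resolve_left (inv_ne_zero Characters.natCard_ne_zero)
    choose m hm using fun (f : IrrCharacter G) (θ : IrrCharacter ↥LL) =>
      Characters.classInner_character_irr
        (Characters.isCharacter_restrict LL (Characters.isCharacter_of_isIrr f.2)) θ.2
    rw [Characters.classInner_eq_sum (Characters.isClassFunction_of_isCharacter
      (Characters.isCharacter_restrict LL (Characters.isCharacter_of_isIrr η'.2)))] at hz
    simp only [hm, Complex.conj_natCast, ← Nat.cast_mul, ← Nat.cast_sum] at hz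
    have h0 := Finset.sum_eq_zero_iff.1 (Nat.cast_eq_zero.1 hz) θ₀ (Finset.mem_univ _)
    have h1 := h.good_covers hdeg hη' hall
    have h2 := h.good_covers hdeg hη hall
    rw [hm, Nat.cast_ne_zero] at h1 h2
    exact mul_ne_zero h1 h2 h0
  refine ⟨η, hη, huniq, fun χ hχ => ?_⟩
  have h1 := hexp χ hχ
  rw [Finset.sum_eq_single η (fun η' _ hne => if_neg fun hg => hne (huniq η' hg)) (by simp),
    if_pos hη] at h1
  exact (mul_eq_right₀ hn0).1 h1.symm

open Classical in
theorem card_eq : (Finset.univ.filter fun χ : IrrCharacter G => χ ∈ B).card = Nat.card D := by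
  obtain ⟨η, hη, -, hd⟩ := h.exists_good hdeg
  obtain ⟨h1, h2, -⟩ := h.top_contribution hdeg hη
  apply Nat.cast_injective (R := ℂ)
  rw [← h1, Finset.cast_card, Finset.sum_filter]
  refine Finset.sum_congr rfl fun χ _ => ?_
  split_ifs with hχ
  · rw [hd χ hχ, map_one, mul_one]
  · rw [h2 χ hχ, zero_mul]

open Classical in
/-- An element fixing a member of `Om` centralizes `D`. -/
theorem mem_of_fixes_Om {θ : IrrCharacter ↥LL} (hθ : θ ∈ Om D b) {g : G}
    (hg : conjIrr LL θ g = θ) : g ∈ Subgroup.centralizer (D : Set G) := by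
  have hS := h.column_sum hdeg
  set F : G → ℂ := fun x =>
    ∑ χ : IrrCharacter G, if χ ∈ B then (χ : G → ℂ) x * conj ((χ : G → ℂ) x) else 0 with hF
  have hFsum : ∑ x : G, F x = (Nat.card D : ℂ) * Nat.card G := by
    rw [← h.card_eq hdeg, Finset.cast_card, Finset.sum_mul, Finset.sum_filter, hF]
    simp only
    rw [Finset.sum_comm]
    refine Finset.sum_congr rfl fun χ _ => ?_
    split_ifs with hχ
    · have h1 := Characters.classInner_isIrr_self χ.2
      rw [Cfsg.classInner, inv_mul_eq_iff_eq_mul₀ Characters.natCard_ne_zero, mul_one] at h1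
      rw [one_mul, h1]
    · simp
  have hvan : ∀ x : G, pPart p x ∉ D → F x = 0 := by
    intro x hx
    refine Finset.sum_eq_zero fun χ _ => ?_
    split_ifs with hχ
    · rw [char_eq_zero_of_not_mem_defectGroup h.hM χ (pPart_spec x) fun E hE => ?_, zero_mul]
      rw [← eq_blockOf_of_mem h.hB hχ] at hE
      obtain ⟨c, rfl⟩ := IsDefectGroup.exists_conj h.hM h.hB h.hD hE
      rwa [show BlockPairs.cj c D = D from
        BlockPairs.cj_eq_self (by rw [Subgroup.normalizer_eq_top]; trivial)]
    · rfl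
  have hsec : ∑ x : G, F x = ∑ v : G, if v ∈ D then ∑ s : G,
      (if ¬ p ∣ orderOf s ∧ Commute v s then F (v * s) else 0) else 0 := by
    rw [Finset.sum_congr rfl (g := fun x => if pPart p x ∈ D then F x else 0) fun x _ => by
      split_ifs with hx
      · rfl
      · exact hvan x hx, sum_pPart_mem h.isP]
    rw [Finset.sum_congr rfl (g := fun s : G => ∑ v : G,
      if v ∈ D then (if ¬ p ∣ orderOf s ∧ Commute v s then F (v * s) else 0) else 0) fun s _ => by
        split_ifs with hs
        · simp [hs]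
        · refine Finset.sum_congr rfl fun v _ => ?_
          by_cases hv : v ∈ D <;> by_cases hc : Commute v s <;> simp [hs, hv, hc],
      Finset.sum_comm]
    exact Finset.sum_congr rfl fun v _ => by split_ifs <;> simp
  choose N hN hNle using fun v : {v : G // v ∈ D} => h.section_bound hS v.2
  have hnat : Nat.card D * Nat.card G = ∑ v : {v : G // v ∈ D}, N v := by
    apply Nat.cast_injective (R := ℂ)
    push_cast
    rw [← hFsum, hsec, ← Finset.sum_filter,
      Finset.sum_subtype (p := fun v => v ∈ D) _ (fun v => by simp)]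
    exact Finset.sum_congr rfl fun v _ => hN v
  set a : {v : G // v ∈ D} → IrrCharacter ↥LL → ℕ := fun v θ =>
    if θ ∈ Om D b then (Finset.univ.filter fun x : G => Commute (v : G) x ∧ conjIrr LL θ x = θ).card
    else 0 with ha
  set c : IrrCharacter ↥LL → ℕ := fun θ =>
    if θ ∈ Om D b then (Finset.univ.filter fun x : G => conjIrr LL θ x = θ).card else 0 with hc
  have hac : ∀ v θ, a v θ ≤ c θ := fun v θ => by
    simp only [a, c]
    split_ifs
    · exact Finset.card_le_card fun x hx => Finset.mem_filter.2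
        ⟨Finset.mem_univ _, (Finset.mem_filter.1 hx).2.2⟩
    · exact le_rfl
  by_contra hgC
  obtain ⟨v, hv, hvg⟩ : ∃ v ∈ D, ¬ Commute v g := by
    by_contra! hall
    exact hgC (Subgroup.mem_centralizer_iff.2 fun v hv => hall v hv)
  have hlt : ∑ v : {v : G // v ∈ D}, ∑ θ, a v θ < ∑ v : {v : G // v ∈ D}, ∑ θ, c θ := by
    refine Finset.sum_lt_sum (fun w _ => Finset.sum_le_sum fun θ' _ => hac w θ')
      ⟨⟨v, hv⟩, Finset.mem_univ _, Finset.sum_lt_sum (fun θ' _ => hac _ θ')
        ⟨θ, Finset.mem_univ _, ?_⟩⟩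
    simp only [a, c, if_pos hθ]
    refine Finset.card_lt_card ⟨fun x hx => Finset.mem_filter.2
      ⟨Finset.mem_univ _, (Finset.mem_filter.1 hx).2.2⟩, fun hsub => hvg ?_⟩
    exact (Finset.mem_filter.1 (hsub (Finset.mem_filter.2 ⟨Finset.mem_univ _, hg⟩))).2.1
  have hc_le : ∑ v : {v : G // v ∈ D}, ∑ θ, c θ ≤ Nat.card D * Nat.card G := by
    rw [Finset.sum_const, Finset.card_univ, smul_eq_mul]
    exact Nat.mul_le_mul (le_of_eq (Nat.card_eq_fintype_card (α := {v : G // v ∈ D})).symm)
      h.sum_fixers_le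
  have hN_le : ∑ v : {v : G // v ∈ D}, N v ≤ ∑ v : {v : G // v ∈ D}, ∑ θ, a v θ :=
    Finset.sum_le_sum fun w _ => hNle w
  omega

end Setting

end CfsgLib.EqualDegree
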