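import Cfsg.Agent.BlocksLocal.WeightedCosets
import Cfsg.Agent.BlocksLocal.NormalAverage
import Cfsg.Agent.Blocks.PrincipalSimple
import Cfsg.Agent.Codegree.Sums
import Cfsg.Agent.Star.Split

/-!
# Characters of defect zero modulo a normal p-subgroup

`DZ p V η`: `η` is trivial on the normal p-subgroup `V` and its degree has the full p-part of the
index of `V`.  Such a character vanishes at the elements whose p-part is outside `V`, takes at the
others the value at the p-regular part, and takes a value which is a unit at `M`.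
-/

set_option autoImplicit false
set_option linter.style.haveILetI false
set_option linter.unusedSectionVars false
set_option maxHeartbeats 400000

namespace CfsgLib.EqualDegree

open Cfsg CfsgLib.Blocks CfsgLib.Star
open scoped ComplexConjugate

universe u

variable {Y : Type u} [Group Y]

/-- The p-regular part. -/
noncomputable def rp (p : ℕ) [Fact p.Prime] [Finite Y] (g : Y) : Y := (pPart p g)⁻¹ * g

variable {p : ℕ} [hp : Fact p.Prime]

section Finite

variable [Finite Y]

theorem pPart_mul_rp (g : Y) : pPart p g * rp p g = g := mul_inv_cancel_left _ _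

theorem rp_spec (g : Y) :
    Commute (pPart p g) (rp p g) ∧ ¬ p ∣ orderOf (rp p g) := by
  obtain ⟨w, h1, h2, -, h4⟩ := pPart_spec (p := p) g
  have e : rp p g = w := by rw [rp, inv_mul_eq_iff_eq_mul, h1]
  exact ⟨e ▸ h2, e ▸ h4⟩

theorem rp_of_regular {g : Y} (h : ¬ p ∣ orderOf g) : pPart p g = 1 ∧ rp p g = g := by
  have e : pPart p g = 1 := pPart_eq ⟨g, one_mul g, Commute.one_left g, ⟨0, by simp⟩, h⟩
  exact ⟨e, by rw [rp, e, inv_one, one_mul]⟩

theorem pPart_rp_of_eq {v s : Y} (hv : ∃ k, orderOf v = p ^ k) (hs : ¬ p ∣ orderOf s)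
    (hc : Commute v s) : pPart p (v * s) = v ∧ rp p (v * s) = s := by
  have e : pPart p (v * s) = v := pPart_eq ⟨s, rfl, hc, hv, hs⟩
  exact ⟨e, by rw [rp, e, inv_mul_cancel_left]⟩

theorem rp_conj (t g : Y) : rp p (t * g * t⁻¹) = t * rp p g * t⁻¹ := by
  rw [rp, rp, pPart_conj]
  group

theorem orderOf_pow_of_mem {V : Subgroup Y} (hV : IsPGroup p V) {v : Y} (hv : v ∈ V) :
    ∃ k, orderOf v = p ^ k := by
  obtain ⟨k, hk⟩ := IsPGroup.iff_orderOf.1 hV ⟨v, hv⟩
  exact ⟨k, by rwa [Subgroup.orderOf_mk] at hk⟩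

variable {V : Subgroup Y} [V.Normal]

/-- The image in the quotient of the decomposition. -/
theorem pPart_mk (g : Y) :
    pPart p (g : Y ⧸ V) = ((pPart p g : Y) : Y ⧸ V) ∧
      rp p (g : Y ⧸ V) = ((rp p g : Y) : Y ⧸ V) := by
  obtain ⟨hc, hr⟩ := rp_spec (p := p) g
  obtain ⟨k, hk⟩ := exists_orderOf_pPart (p := p) g
  obtain ⟨j, -, hj⟩ := (Nat.dvd_prime_pow hp.out).1
    (hk ▸ orderOf_map_dvd (QuotientGroup.mk' V) (pPart p g))
  have h := pPart_rp_of_eq (p := p) (v := ((pPart p g : Y) : Y ⧸ V))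
    (s := ((rp p g : Y) : Y ⧸ V)) ⟨j, hj⟩
    (fun hd => hr (hd.trans (orderOf_map_dvd (QuotientGroup.mk' V) (rp p g))))
    (hc.map (QuotientGroup.mk' V))
  rwa [← QuotientGroup.mk_mul, pPart_mul_rp] at h

theorem pPart_mem_iff (g : Y) :
    pPart p g ∈ V ↔ ¬ p ∣ orderOf (g : Y ⧸ V) := by
  have h := pPart_mk (p := p) (V := V) g
  constructor
  · intro hg
    have e : (g : Y ⧸ V) = ((rp p g : Y) : Y ⧸ V) := by
      conv_lhs => rw [← pPart_mul_rp (p := p) g, QuotientGroup.mk_mul,
        (QuotientGroup.eq_one_iff _).2 hg, one_mul]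
    rw [e]
    exact fun hd => (rp_spec g).2 (hd.trans (orderOf_map_dvd (QuotientGroup.mk' V) (rp p g)))
  · intro hg
    rw [← QuotientGroup.eq_one_iff, ← h.1]
    exact (rp_of_regular hg).1

/-- The p-regular parts of the members of a coset are conjugate under `V`. -/
theorem exists_rp_conj (hV : IsPGroup p V) {g g' : Y} (h : (g : Y ⧸ V) = g') :
    ∃ q ∈ V, q * rp p g' * q⁻¹ = rp p g := by
  refine BlocksLocal.Weighted.exists_conj_of_coset hV (rp_spec g).2 (rp_spec g').2 ?_
  rw [← QuotientGroup.eq_one_iff, QuotientGroup.mk_mul, QuotientGroup.mk_inv,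
    ← (pPart_mk (p := p) (V := V) g).2, ← (pPart_mk (p := p) (V := V) g').2, h, mul_inv_cancel]

end Finite

/-- Trivial on `V` and of defect zero in the quotient. -/
def DZ (p : ℕ) (V : Subgroup Y) (η : IrrCharacter Y) : Prop :=
  (∀ x ∈ V, (η : Y → ℂ) x = (η : Y → ℂ) 1) ∧
    (Cfsg.charDegree (η : Y → ℂ)).factorization p = V.index.factorization p

variable [Fintype Y] {V : Subgroup Y} [V.Normal]

theorem DZ.exists_descend {η : IrrCharacter Y} (hη : DZ p V η) :
    ∃ φ : IrrCharacter (Y ⧸ V), (∀ g : Y, (η : Y → ℂ) g = (φ : Y ⧸ V → ℂ) g) ∧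
      ¬ p ∣ Nat.card (Y ⧸ V) / Cfsg.charDegree (φ : Y ⧸ V → ℂ) := by
  haveI := Fintype.ofFinite (Y ⧸ V)
  obtain ⟨ψ, hψ, hψv⟩ := Characters.exists_irr_quotient V η.2 hη.1
  refine ⟨⟨ψ, hψ⟩, hψv, fun hd => ?_⟩
  have hdeg : Cfsg.charDegree (ψ : Y ⧸ V → ℂ) = Cfsg.charDegree (η : Y → ℂ) := by
    simp only [Cfsg.charDegree, hψv, QuotientGroup.mk_one]
  have hdd := charDegree_dvd_card (⟨ψ, hψ⟩ : IrrCharacter (Y ⧸ V))
  have h0 : Nat.card (Y ⧸ V) / Cfsg.charDegree ψ ≠ 0 :=
    (Nat.div_pos (Nat.le_of_dvd Nat.card_pos hdd)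
      (Nat.pos_of_ne_zero (charDegree_ne_zero (⟨ψ, hψ⟩ : IrrCharacter (Y ⧸ V))))).ne'
  have := Nat.Prime.factorization_pos_of_dvd hp.out h0 hd
  rw [Nat.factorization_div hdd, Finsupp.coe_tsub, Pi.sub_apply, hdeg, hη.2,
    ← Subgroup.index_eq_card] at this
  omega

theorem DZ.vanish {M : Ideal AlgInt} (hM : Cfsg.IsPModular p M) {η : IrrCharacter Y}
    (hη : DZ p V η) {g : Y} (hg : pPart p g ∉ V) : (η : Y → ℂ) g = 0 := by
  haveI := IsPModular.isPrime hM
  haveI := Fintype.ofFinite (Y ⧸ V)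
  obtain ⟨φ, hφ, hz⟩ := hη.exists_descend
  rw [pPart_mem_iff, not_not] at hg
  rw [hφ]
  exact eq_zero_of_singular_of_defect_zero hM φ hz hg

theorem DZ.value {η : IrrCharacter Y} (hη : DZ p V η) {g : Y} (hg : pPart p g ∈ V) :
    (η : Y → ℂ) g = (η : Y → ℂ) (rp p g) := by
  obtain ⟨φ, hφ, -⟩ := hη.exists_descend
  rw [hφ, hφ]
  congr 1
  conv_lhs => rw [← pPart_mul_rp (p := p) g, QuotientGroup.mk_mul,
    (QuotientGroup.eq_one_iff _).2 hg, one_mul]

/-- A character of defect zero takes a unit value. -/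
theorem DZ.exists_unit {M : Ideal AlgInt} (hM : Cfsg.IsPModular p M) {η : IrrCharacter Y}
    (hη : DZ p V η) : ∃ g : Y, ¬ Cfsg.MemLocalIdeal M ((η : Y → ℂ) g) := by
  classical
  haveI := IsPModular.isPrime hM
  haveI := Fintype.ofFinite (Y ⧸ V)
  obtain ⟨φ, hφ, hz⟩ := hη.exists_descend
  by_contra! hall
  have hA : IsBlockUnion M ({φ} : Set (IrrCharacter (Y ⧸ V))) :=
    (defect_zero_iff hM φ).1 hz ▸ isBlockUnion_of_isPBlock (isPBlock_blockOf φ)
  have h1 := omegaBar_idemBar (M := M) _ hA φ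
  rw [if_pos (Set.mem_singleton φ)] at h1
  have h0 : idemBar M ({φ} : Set (IrrCharacter (Y ⧸ V))) hA = 0 := by
    refine ctr_ext fun q => ?_
    rw [coeff_idemBar]
    refine red_eq_zero_iff.2 ?_
    obtain ⟨g, hg⟩ := QuotientGroup.mk_surjective q⁻¹
    show Cfsg.MemLocalIdeal M (Cfsg.blockCoeff ({φ} : Set (IrrCharacter (Y ⧸ V))) q)
    rw [Cfsg.blockCoeff, finsum_mem_singleton,
      ← Characters.character_inv (Characters.isCharacter_of_isIrr φ.2), ← hg, ← hφ, ← mul_assoc]
    refine memLocalIdeal_mul_left ?_ (hall g)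
    have hd := charDegree_dvd_card φ
    have e : (Nat.card (Y ⧸ V) : ℂ)⁻¹ * (φ : Y ⧸ V → ℂ) 1 =
        ((Nat.card (Y ⧸ V) / Cfsg.charDegree (φ : Y ⧸ V → ℂ) : ℕ) : ℂ)⁻¹ := by
      rw [← charDegree_cast, Nat.cast_div hd (Nat.cast_ne_zero.2 (charDegree_ne_zero φ)), inv_div,
        div_eq_inv_mul]
    rw [e]
    exact memLocalRing_natCast_inv hM hz
  rw [h0, map_zero] at h1
  exact zero_ne_one h1

open Classical in
/-- The number of elements of `V` commuting with `s`. -/
noncomputable def cfix (V : Subgroup Y) (s : Y) : ℕ :=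
  (Finset.univ.filter fun v : Y => v ∈ V ∧ Commute v s).card

theorem cfix_pos (s : Y) : 0 < cfix V s := by
  classical
  exact Finset.card_pos.2 ⟨1, Finset.mem_filter.2
    ⟨Finset.mem_univ _, V.one_mem, Commute.one_left s⟩⟩

theorem cfix_le (s : Y) : cfix V s ≤ Nat.card V := by
  classical
  rw [cfix, Nat.card_eq_fintype_card, Fintype.card_subtype]
  exact Finset.card_le_card fun v hv =>
    Finset.mem_filter.2 ⟨Finset.mem_univ _, (Finset.mem_filter.1 hv).2.1⟩

theorem cfix_eq_iff (s : Y) :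
    cfix V s = Nat.card V ↔ s ∈ Subgroup.centralizer (V : Set Y) := by
  classical
  constructor
  · intro h
    refine Subgroup.mem_centralizer_iff.2 fun v hv => ?_
    have hsub : (Finset.univ.filter fun v : Y => v ∈ V ∧ Commute v s) ⊆
        Finset.univ.filter fun v : Y => v ∈ V := fun v hv =>
      Finset.mem_filter.2 ⟨Finset.mem_univ _, (Finset.mem_filter.1 hv).2.1⟩
    have he := Finset.eq_of_subset_of_card_le hsub (by
      have : Nat.card V = (Finset.univ.filter fun v : Y => v ∈ V).card := by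
        rw [Nat.card_eq_fintype_card, Fintype.card_subtype]
      rw [← this, ← h, cfix])
    have : v ∈ Finset.univ.filter fun v : Y => v ∈ V ∧ Commute v s := by
      rw [he]; exact Finset.mem_filter.2 ⟨Finset.mem_univ _, hv⟩
    exact (Finset.mem_filter.1 this).2.2
  · intro h
    rw [cfix, Nat.card_eq_fintype_card, Fintype.card_subtype]
    congr 1
    refine Finset.filter_congr fun v _ => ⟨fun hv => hv.1, fun hv => ⟨hv, ?_⟩⟩
    exact Subgroup.mem_centralizer_iff.1 h v hv

open Classical in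
/-- A sum over the elements with p-part in `V`. -/
theorem sum_pPart_mem (hV : IsPGroup p V) (F : Y → ℂ) :
    ∑ g : Y, (if pPart p g ∈ V then F g else 0) =
      ∑ s : Y, if p ∣ orderOf s then 0 else
        ∑ v : Y, if v ∈ V ∧ Commute v s then F (v * s) else 0 := by
  rw [← Finset.sum_filter]
  rw [show (∑ s : Y, if p ∣ orderOf s then 0 else
      ∑ v : Y, if v ∈ V ∧ Commute v s then F (v * s) else 0) =
      ∑ s ∈ Finset.univ.filter (fun s : Y => ¬ p ∣ orderOf s),
        ∑ v ∈ Finset.univ.filter (fun v : Y => v ∈ V ∧ Commute v s), F (v * s) by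
    rw [Finset.sum_filter]
    refine Finset.sum_congr rfl fun s _ => ?_
    rw [Finset.sum_filter]
    split_ifs <;> rfl]
  rw [Finset.sum_sigma']
  refine Finset.sum_nbij' (fun g => ⟨rp p g, pPart p g⟩) (fun z => z.2 * z.1) ?_ ?_ ?_ ?_ ?_
  · intro g hg
    simp only [Finset.mem_coe, Finset.mem_filter, Finset.mem_univ, true_and] at hg
    simp only [Finset.mem_coe, Finset.mem_sigma, Finset.mem_filter, Finset.mem_univ,
      true_and]
    exact ⟨(rp_spec g).2, hg, (rp_spec g).1⟩
  · rintro ⟨s, v⟩ hz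
    simp only [Finset.mem_coe, Finset.mem_sigma, Finset.mem_filter, Finset.mem_univ,
      true_and] at hz
    simp only [Finset.mem_coe, Finset.mem_filter, Finset.mem_univ, true_and]
    rw [(pPart_rp_of_eq (orderOf_pow_of_mem hV hz.2.1) hz.1 hz.2.2).1]
    exact hz.2.1
  · intro g _
    exact pPart_mul_rp g
  · rintro ⟨s, v⟩ hz
    simp only [Finset.mem_coe, Finset.mem_sigma, Finset.mem_filter, Finset.mem_univ,
      true_and] at hz
    have h := pPart_rp_of_eq (orderOf_pow_of_mem hV hz.2.1) hz.1 hz.2.2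
    simp only [h.1, h.2]
  · intro g _
    rw [pPart_mul_rp]

variable {M : Ideal AlgInt}

open Classical in
/-- An inner product with a character of defect zero is a sum over the p-regular elements. -/
theorem DZ.classInner_eq (hV : IsPGroup p V) (hM : Cfsg.IsPModular p M) {η : IrrCharacter Y}
    (hη : DZ p V η) (F : Y → ℂ) (hF : ∀ g : Y, pPart p g ∈ V → F g = F (rp p g)) :
    Cfsg.classInner F (η : Y → ℂ) = (Nat.card Y : ℂ)⁻¹ *
      ∑ s : Y, if p ∣ orderOf s then 0 else (cfix V s : ℂ) * (F s * conj ((η : Y → ℂ) s)) := by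
  rw [Cfsg.classInner]
  congr 1
  have e : ∀ g : Y, F g * conj ((η : Y → ℂ) g) =
      if pPart p g ∈ V then F (rp p g) * conj ((η : Y → ℂ) (rp p g)) else 0 := fun g => by
    split_ifs with h
    · rw [hη.value h, hF g h]
    · rw [hη.vanish hM h, map_zero, mul_zero]
  rw [Finset.sum_congr rfl fun g _ => e g,
    sum_pPart_mem hV fun g => F (rp p g) * conj ((η : Y → ℂ) (rp p g))]
  refine Finset.sum_congr rfl fun s _ => ?_
  split_ifs with hs
  · rfl
  rw [cfix, ← Finset.sum_filter, Finset.sum_congr rfl fun v hv => by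
    obtain ⟨-, hv, hc⟩ := Finset.mem_filter.1 hv
    rw [(pPart_rp_of_eq (orderOf_pow_of_mem hV hv) hs hc).2],
    Finset.sum_const, nsmul_eq_mul]

open Classical in
/-- Orthonormality on the p-regular elements. -/
theorem DZ.orthonormal (hV : IsPGroup p V) (hM : Cfsg.IsPModular p M) {η η' : IrrCharacter Y}
    (hη : DZ p V η) (hη' : DZ p V η') :
    (Nat.card Y : ℂ)⁻¹ * ∑ s : Y, (if p ∣ orderOf s then 0 else
      (cfix V s : ℂ) * ((η : Y → ℂ) s * conj ((η' : Y → ℂ) s))) = if η = η' then 1 else 0 := by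
  rw [← DZ.classInner_eq hV hM hη' (η : Y → ℂ) fun g hg => hη.value hg]
  exact Characters.classInner_irr η η'

open Classical in
/-- A combination of characters of defect zero vanishing on the p-regular elements is trivial. -/
theorem DZ.coeff_eq_zero (hM : Cfsg.IsPModular p M) (c : IrrCharacter Y → ℂ)
    (hc : ∀ η, c η ≠ 0 → DZ p V η)
    (h : ∀ s : Y, ¬ p ∣ orderOf s → ∑ η, c η * (η : Y → ℂ) s = 0) (η : IrrCharacter Y) :
    c η = 0 := by
  have hz : ∑ η, c η • (η : Y → ℂ) = 0 := by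
    funext g
    simp only [Finset.sum_apply, Pi.smul_apply, smul_eq_mul, Pi.zero_apply]
    by_cases hg : pPart p g ∈ V
    · rw [← h (rp p g) (rp_spec g).2]
      refine Finset.sum_congr rfl fun η _ => ?_
      rcases eq_or_ne (c η) 0 with h0 | h0
      · rw [h0, zero_mul, zero_mul]
      · rw [(hc η h0).value hg]
    · refine Finset.sum_eq_zero fun η _ => ?_
      rcases eq_or_ne (c η) 0 with h0 | h0
      · rw [h0, zero_mul]
      · rw [(hc η h0).vanish hM hg, mul_zero]
  rw [← Characters.classInner_irr_coeff c η, hz, Characters.classInner_zero_left]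

/-- A function of the p-regular part lies in the span of the characters trivial on `V`. -/
theorem classInner_rp_eq_zero (hV : IsPGroup p V) {F : Y → ℂ} (hF : Cfsg.IsClassFunction Y F)
    {ψ : IrrCharacter Y} (hψ : ¬ ∀ x ∈ V, (ψ : Y → ℂ) x = (ψ : Y → ℂ) 1) :
    Cfsg.classInner (fun g => F (rp p g)) (ψ : Y → ℂ) = 0 := by
  classical
  haveI := Fintype.ofFinite V
  rw [Cfsg.classInner]
  refine mul_eq_zero_of_right _ ?_
  have hcl : ∀ (g : Y) (v : V), F (rp p (g * v)) = F (rp p g) := fun g v => by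
    obtain ⟨q, -, hq⟩ := exists_rp_conj (p := p) hV (g := g * v) (g' := g)
      (QuotientGroup.eq.2 (by simp))
    rw [← hq, hF]
  have key : (Nat.card V : ℂ) * ∑ g : Y, F (rp p g) * conj ((ψ : Y → ℂ) g) = 0 := by
    have e : ∀ v : V, ∑ g : Y, F (rp p g) * conj ((ψ : Y → ℂ) g) =
        ∑ g : Y, F (rp p g) * conj ((ψ : Y → ℂ) (g * v)) := fun v => by
      refine (Fintype.sum_equiv (Equiv.mulRight (v : Y)) _ _ fun g => ?_).symm
      simp [hcl]
    calc (Nat.card V : ℂ) * ∑ g : Y, F (rp p g) * conj ((ψ : Y → ℂ) g)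
        = ∑ v : V, ∑ g : Y, F (rp p g) * conj ((ψ : Y → ℂ) g) := by
          rw [Finset.sum_const, Finset.card_univ, nsmul_eq_mul, Nat.card_eq_fintype_card]
      _ = ∑ v : V, ∑ g : Y, F (rp p g) * conj ((ψ : Y → ℂ) (g * v)) :=
          Finset.sum_congr rfl fun v _ => e v
      _ = 0 := by
          rw [Finset.sum_comm]
          refine Finset.sum_eq_zero fun g _ => ?_
          rw [← Finset.mul_sum, ← map_sum, Codegree.sum_coset_eq_zero ψ V hψ g, map_zero, mul_zero]
  exact (mul_eq_zero.1 key).resolve_left (Nat.cast_ne_zero.2 Nat.card_pos.ne')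

theorem isClassFunction_rp {F : Y → ℂ} (hF : Cfsg.IsClassFunction Y F) :
    Cfsg.IsClassFunction Y (fun g => F (rp p g)) := fun g h => by
  show F (rp p (h * g * h⁻¹)) = F (rp p g)
  rw [rp_conj, hF]

end CfsgLib.EqualDegree
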