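import Cfsg.Agent.EqualDegree.Basic

/-!
# The contribution of a character of defect zero modulo an abelian normal p-subgroup

Given a family of class functions on `Y` with the column relations of a group containing `Y` as
the centralizer of a p-element, the sum of the squares of the coefficients of a character `η` of
defect zero modulo the abelian normal p-subgroup `V` is a natural number, at most `|V|` and, when
the partial column sums are divisible by `|V|` in the local ring, divisible by `|V|`.  Hence it is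
`|V|`, and `η` vanishes outside the centralizer of `V`.
-/

set_option autoImplicit false
set_option linter.style.haveILetI false
set_option linter.unusedSectionVars false
set_option maxHeartbeats 400000

namespace CfsgLib.EqualDegree

open Cfsg CfsgLib.Blocks CfsgLib.Star
open scoped ComplexConjugate

universe u v

variable {Y : Type u} [Group Y] [Fintype Y] {p : ℕ} [Fact p.Prime] {M : Ideal AlgInt}

theorem pow_dvd_of_memLocalRing [M.IsPrime] (hM : Cfsg.IsPModular p M) {k C : ℕ} (hC : C ≠ 0)
    (h : Cfsg.MemLocalRing M (((p ^ k : ℕ) : ℂ)⁻¹ * C)) : p ^ k ∣ C := by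
  have hp : p.Prime := Fact.out
  obtain ⟨v, m, hm, rfl⟩ := Nat.exists_eq_pow_mul_and_not_dvd hC p hp.ne_one
  rcases Nat.lt_or_ge v k with hv | hv
  · refine absurd ((memLocalIdeal_natCast_iff hM m).1 ?_) hm
    have h1 : Cfsg.MemLocalIdeal M ((p ^ (k - v) : ℕ) : ℂ) :=
      (memLocalIdeal_natCast_iff hM _).2 (dvd_pow_self p (by omega))
    have h2 := memLocalIdeal_mul_right h1 h
    have hp0 : (p : ℂ) ≠ 0 := Nat.cast_ne_zero.2 hp.ne_zero
    have e : ((p ^ (k - v) : ℕ) : ℂ) * (((p ^ k : ℕ) : ℂ)⁻¹ * ((p ^ v * m : ℕ) : ℂ)) = m := by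
      push_cast
      have : (p : ℂ) ^ k = (p : ℂ) ^ (k - v) * (p : ℂ) ^ v := by
        rw [← pow_add, Nat.sub_add_cancel hv.le]
      rw [this]
      field_simp
    rwa [e] at h2
  · exact Dvd.dvd.mul_right (pow_dvd_pow p hv) m

variable {V : Subgroup Y} [V.Normal]

open Classical in
/-- A natural valued class function has a natural weighted sum over a normal subgroup. -/
theorem exists_nat_sum_classes (W : Y → ℕ) (hW : ∀ g h : Y, W (h * g * h⁻¹) = W g) :
    ∃ C : ℕ, ∑ v : Y, (if v ∈ V then
      (W v : ℂ) / ((Subgroup.centralizer ({v} : Set Y)).index : ℂ) else 0) = C := by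
  haveI := Fintype.ofFinite (ConjClasses Y)
  refine ⟨∑ c : ConjClasses Y, if Quotient.out c ∈ V then W (Quotient.out c) else 0, ?_⟩
  rw [Nat.cast_sum, ← Finset.sum_fiberwise (s := (Finset.univ : Finset Y)) (g := ConjClasses.mk)]
  refine Finset.sum_congr rfl fun c _ => ?_
  set g := Quotient.out c with hg
  have hc : ConjClasses.mk g = c := Quotient.out_eq _
  have hcard : (Finset.univ.filter fun v : Y => ConjClasses.mk v = c).card =
      (Subgroup.centralizer ({g} : Set Y)).index := by
    rw [← natCard_class g, Nat.card_eq_fintype_card, Fintype.card_subtype, hc]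
  have hconst : ∀ v ∈ Finset.univ.filter (fun v : Y => ConjClasses.mk v = c),
      (if v ∈ V then (W v : ℂ) / ((Subgroup.centralizer ({v} : Set Y)).index : ℂ) else 0) =
        if g ∈ V then (W g : ℂ) / ((Subgroup.centralizer ({g} : Set Y)).index : ℂ) else 0 := by
    intro v hv
    have hv : ConjClasses.mk v = ConjClasses.mk g := (Finset.mem_filter.1 hv).2.trans hc.symm
    obtain ⟨x, hx⟩ := isConj_iff.1 (ConjClasses.mk_eq_mk_iff_isConj.1 hv.symm)
    have hmem : v ∈ V ↔ g ∈ V := by
      rw [← hx, Subgroup.Normal.mem_comm_iff inferInstance, inv_mul_cancel_left]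
    have hW' : W v = W g := by rw [← hx, hW]
    have hidx : (Subgroup.centralizer ({v} : Set Y)).index =
        (Subgroup.centralizer ({g} : Set Y)).index := by
      rw [← natCard_class v, ← natCard_class g, hv]
    rw [hW', hidx]
    exact if_congr hmem rfl rfl
  rw [Finset.sum_congr rfl hconst, Finset.sum_const, nsmul_eq_mul, hcard]
  split_ifs
  · exact mul_div_cancel₀ _ (Nat.cast_ne_zero.2 Subgroup.index_ne_zero_of_finite)
  · rw [mul_zero, Nat.cast_zero]

/-- The coefficient of `η` in the function `f` read on the p-regular parts. -/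
noncomputable def dcoef (p : ℕ) [Fact p.Prime] (f : Y → ℂ) (η : IrrCharacter Y) : ℂ :=
  Cfsg.classInner (fun g => f (rp p g)) (η : Y → ℂ)

/-- Projection onto an irreducible character. -/
theorem sum_blockCoeff_singleton_mul (η : IrrCharacter Y) {F : Y → ℂ}
    (hF : Cfsg.IsClassFunction Y F) (g : Y) :
    ∑ y : Y, Cfsg.blockCoeff ({η} : Set (IrrCharacter Y)) y * F (y * g) =
      Cfsg.classInner F (η : Y → ℂ) * (η : Y → ℂ) g := by
  classical
  have hψ : ∀ ψ : IrrCharacter Y,
      ∑ y : Y, Cfsg.blockCoeff ({η} : Set (IrrCharacter Y)) y * (ψ : Y → ℂ) (y * g) =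
        if ψ = η then (ψ : Y → ℂ) g else 0 := by
    intro ψ
    have h := evalFun_central_mul ψ (setIdemC ({η} : Set (IrrCharacter Y)))
      (MonoidAlgebra.single g 1)
    have e1 : evalFun (ψ : Y → ℂ) (MonoidAlgebra.single g 1) = (ψ : Y → ℂ) g := by
      rw [evalFun, Finset.sum_eq_single g (fun b _ hb => by simp [hb.symm]) (by simp)]
      simp
    have e2 : evalFun (ψ : Y → ℂ) ((setIdemC ({η} : Set (IrrCharacter Y)) : MonoidAlgebra ℂ Y) *
        MonoidAlgebra.single g 1) =
        ∑ y : Y, Cfsg.blockCoeff ({η} : Set (IrrCharacter Y)) y * (ψ : Y → ℂ) (y * g) := by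
      rw [evalFun]
      refine (Fintype.sum_equiv (Equiv.mulRight g) _ _ fun y => ?_).symm
      simp [MonoidAlgebra.coeff_mul_single_apply, coeff_setIdemC]
    rw [e2, e1, omega_setIdemC] at h
    rw [h]
    by_cases hh : ψ = η
    · rw [if_pos (Set.mem_singleton_iff.2 hh), if_pos hh, one_mul]
    · rw [if_neg (fun h' => hh (Set.mem_singleton_iff.1 h')), if_neg hh, zero_mul]
  conv_lhs => rw [Characters.classFunction_expansion hF]
  simp only [Finset.sum_apply, Pi.smul_apply, smul_eq_mul, Finset.mul_sum]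
  rw [Finset.sum_comm, Finset.sum_eq_single η]
  · rw [Finset.sum_congr rfl fun y _ => mul_left_comm _ _ _, ← Finset.mul_sum, hψ η, if_pos rfl]
  · intro ψ _ hne
    rw [Finset.sum_congr rfl fun y _ => mul_left_comm _ _ _, ← Finset.mul_sum, hψ ψ, if_neg hne,
      mul_zero]
  · simp

theorem DZ.mk_eq {η : IrrCharacter Y} (hη : DZ p V η) {g g' : Y} (h : (g : Y ⧸ V) = g') :
    (η : Y → ℂ) g = (η : Y → ℂ) g' := by
  obtain ⟨φ, hφ, -⟩ := hη.exists_descend
  rw [hφ, hφ, h]

/-- The coefficient times a value of `η` is a local combination of the values of `f`. -/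
theorem DZ.exists_comb (hV : IsPGroup p V) [M.IsPrime] (hM : Cfsg.IsPModular p M)
    [Fintype (Y ⧸ V)] {η : IrrCharacter Y} (hη : DZ p V η) :
    ∃ a : Y ⧸ V → ℂ, (∀ q, Cfsg.MemLocalRing M (a q)) ∧ (∀ q, Cfsg.MemLocalRing M (conj (a q))) ∧
      ∀ f : Y → ℂ, Cfsg.IsClassFunction Y f → ∀ g : Y,
        dcoef p f η * (η : Y → ℂ) g =
          ∑ q : Y ⧸ V, a q * f (rp p (q.out * g)) := by
  classical
  obtain ⟨φ, hφ, hz⟩ := hη.exists_descend
  set m := Nat.card (Y ⧸ V) / Cfsg.charDegree (φ : Y ⧸ V → ℂ) with hm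
  have hint : ∀ q, Cfsg.MemLocalRing M ((φ : Y ⧸ V → ℂ) q) := fun q => memLocalRing_char φ q
  have hconj : ∀ q, conj ((φ : Y ⧸ V → ℂ) q) = (φ : Y ⧸ V → ℂ) q⁻¹ := fun q =>
    (Characters.character_inv (Characters.isCharacter_of_isIrr φ.2) q).symm
  have hinv : Cfsg.MemLocalRing M ((m : ℂ)⁻¹) := memLocalRing_natCast_inv hM hz
  refine ⟨fun q => (m : ℂ)⁻¹ * conj ((φ : Y ⧸ V → ℂ) q),
    fun q => Subring.mul_mem (localRing M) hinv (by rw [hconj]; exact hint _),
    fun q => by
      rw [map_mul, Complex.conj_conj, map_inv₀, Complex.conj_natCast]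
      exact Subring.mul_mem (localRing M) hinv (hint q), fun f hf g => ?_⟩
  rw [dcoef, ← sum_blockCoeff_singleton_mul η (isClassFunction_rp hf) g]
  have hfib : ∀ F : Y → ℂ, (∀ y y' : Y, (y : Y ⧸ V) = y' → F y = F y') →
      ∑ y : Y, F y = (Nat.card V : ℂ) * ∑ q : Y ⧸ V, F q.out := by
    intro F hF
    rw [← Finset.sum_fiberwise (s := (Finset.univ : Finset Y)) (g := fun y => (y : Y ⧸ V)),
      Finset.mul_sum]
    refine Finset.sum_congr rfl fun q _ => ?_
    rw [Finset.sum_congr rfl (g := fun _ => F q.out) fun y hy => hF y q.out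
      ((Finset.mem_filter.1 hy).2.trans (QuotientGroup.out_eq' q).symm), Finset.sum_const,
      nsmul_eq_mul]
    congr 2
    rw [← Fintype.card_subtype, ← Nat.card_eq_fintype_card]
    exact Nat.card_congr
      ((Equiv.subtypeEquivRight fun y => by
        rw [← QuotientGroup.out_eq' q, QuotientGroup.out_eq' q]).trans
      ((Equiv.subtypeEquiv (Equiv.mulLeft q.out⁻¹) fun y => by
        rw [Equiv.coe_mulLeft]
        constructor
        · intro h
          exact QuotientGroup.eq.1 ((QuotientGroup.out_eq' q).trans h.symm)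
        · intro h
          exact (QuotientGroup.eq.2 h).symm.trans (QuotientGroup.out_eq' q))))
  rw [hfib _ fun y y' h => ?_, Finset.mul_sum]
  · refine Finset.sum_congr rfl fun q _ => ?_
    rw [Cfsg.blockCoeff, finsum_mem_singleton, hφ q.out, QuotientGroup.out_eq']
    show _ = (m : ℂ)⁻¹ * conj ((φ : Y ⧸ V → ℂ) q) * _
    have hd := charDegree_dvd_card φ
    have e : (m : ℂ)⁻¹ = (φ : Y ⧸ V → ℂ) 1 / (Nat.card (Y ⧸ V) : ℂ) := by
      rw [hm, Nat.cast_div hd (Nat.cast_ne_zero.2 (charDegree_ne_zero φ)), inv_div,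
        charDegree_cast]
    have hc : (Nat.card Y : ℂ) = (Nat.card (Y ⧸ V) : ℂ) * (Nat.card V : ℂ) := by
      rw [← Nat.cast_mul, ← Subgroup.card_eq_card_quotient_mul_card_subgroup]
    have h0 : (Nat.card V : ℂ) ≠ 0 := Nat.cast_ne_zero.2 Nat.card_pos.ne'
    have h1 : (η : Y → ℂ) 1 = (φ : Y ⧸ V → ℂ) 1 := by rw [hφ, QuotientGroup.mk_one]
    rw [e, h1, hc]
    field_simp
  · simp only [Cfsg.blockCoeff, finsum_mem_singleton]
    have hyy : ((y * g : Y) : Y ⧸ V) = ((y' * g : Y) : Y ⧸ V) := by
      rw [QuotientGroup.mk_mul, QuotientGroup.mk_mul, h]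
    obtain ⟨q, -, hq⟩ := exists_rp_conj (p := p) hV hyy
    rw [hη.mk_eq h, ← hq, hf]
    try rw [hη.mk_eq (g := y⁻¹) (g' := y'⁻¹) (by rw [QuotientGroup.mk_inv, QuotientGroup.mk_inv, h])]

section Contribution

variable {ι : Type v} [Fintype ι] (hV : IsPGroup p V) (hab : ∀ a ∈ V, ∀ c ∈ V, a * c = c * a)
  (hM : Cfsg.IsPModular p M) {η : IrrCharacter Y} (hη : DZ p V η) (f : ι → Y → ℂ)
  (hf : ∀ i, Cfsg.IsClassFunction Y (f i))
  (horth : ∀ s s' : Y, ¬ p ∣ orderOf s → ¬ p ∣ orderOf s' →
    ∑ i, f i s * conj (f i s') = (Nat.card {c : Y // c * s * c⁻¹ = s'} : ℂ))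

open Classical in
/-- `η` weighted by the fixed points of the p-regular elements. -/
noncomputable def wfun (p : ℕ) (V : Subgroup Y) (η : IrrCharacter Y) : Y → ℂ :=
  fun s => if p ∣ orderOf s then 0 else (cfix V s : ℂ) * (η : Y → ℂ) s

theorem cfix_conj (s h : Y) : cfix V (h * s * h⁻¹) = cfix V s := by
  classical
  rw [cfix, cfix]
  refine (Finset.card_equiv (MulAut.conj h).toEquiv fun v => ?_).symm
  simp only [Finset.mem_filter, Finset.mem_univ, true_and, MulEquiv.toEquiv_eq_coe,
    EquivLike.coe_coe, MulAut.conj_apply]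
  refine and_congr ?_ ?_
  · rw [Subgroup.Normal.mem_comm_iff (inferInstance : V.Normal) (a := h * v),
      inv_mul_cancel_left]
  · exact (Commute.conj_iff h).symm

theorem wfun_conj (η : IrrCharacter Y) (s h : Y) :
    wfun p V η (h * s * h⁻¹) = wfun p V η s := by
  simp only [wfun, show orderOf (h * s * h⁻¹) = orderOf s from MulEquiv.orderOf_eq (MulAut.conj h) s,
    cfix_conj, Characters.isClassFunction_of_isIrr η.2 s h]

include hV hM hη hf horth

open Classical in
/-- The sum of the squares of the coefficients of `η`. -/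
theorem sum_dcoef_sq :
    ∑ i, dcoef p (f i) η * conj (dcoef p (f i) η) = (Nat.card Y : ℂ)⁻¹ *
      ∑ s : Y, (if p ∣ orderOf s then 0 else
        (cfix V s : ℂ) ^ 2 * ((η : Y → ℂ) s * conj ((η : Y → ℂ) s))) := by
  haveI := IsPModular.isPrime hM
  have hd : ∀ i, dcoef p (f i) η = (Nat.card Y : ℂ)⁻¹ * ∑ s : Y, f i s * conj (wfun p V η s) := by
    intro i
    rw [dcoef, DZ.classInner_eq hV hM hη _ fun g _ => ?_]
    · congr 1
      refine Finset.sum_congr rfl fun s _ => ?_
      rw [wfun]
      split_ifs with hs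
      · rw [map_zero, mul_zero]
      · rw [(rp_of_regular hs).2, map_mul, Complex.conj_natCast]; ring
    · show f i (rp p g) = f i (rp p (rp p g))
      rw [(rp_of_regular (rp_spec g).2).2]
  have horth' : ∀ s s' : Y,
      conj (wfun p V η s) * wfun p V η s' * ∑ i, f i s * conj (f i s') =
        conj (wfun p V η s) * wfun p V η s' * (Nat.card {c : Y // c * s * c⁻¹ = s'} : ℂ) := by
    intro s s'
    by_cases hs : p ∣ orderOf s
    · simp [wfun, hs]
    · by_cases hs' : p ∣ orderOf s'
      · simp [wfun, hs']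
      · rw [horth s s' hs hs']
  have hcount : ∀ s : Y, ∑ s' : Y, wfun p V η s' * (Nat.card {c : Y // c * s * c⁻¹ = s'} : ℂ) =
      (Nat.card Y : ℂ) * wfun p V η s := by
    intro s
    rw [Finset.sum_congr rfl (g := fun s' => ∑ c : Y,
      if c * s * c⁻¹ = s' then wfun p V η s' else 0) fun s' _ => by
        rw [Nat.card_eq_fintype_card, Fintype.card_subtype, ← Finset.sum_filter, Finset.sum_const,
          nsmul_eq_mul, mul_comm], Finset.sum_comm]
    simp only [Finset.sum_ite_eq, Finset.mem_univ, if_true, wfun_conj]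
    rw [Finset.sum_const, Finset.card_univ, nsmul_eq_mul, Nat.card_eq_fintype_card]
  calc ∑ i, dcoef p (f i) η * conj (dcoef p (f i) η)
      = (Nat.card Y : ℂ)⁻¹ * ((Nat.card Y : ℂ)⁻¹ * ∑ s : Y, ∑ s' : Y,
          conj (wfun p V η s) * wfun p V η s' * ∑ i, f i s * conj (f i s')) := by
        simp only [hd, map_mul, map_inv₀, Complex.conj_natCast, map_sum, Complex.conj_conj,
          Finset.sum_mul, Finset.mul_sum]
        refine Finset.sum_comm.trans ?_
        refine Eq.trans ?_ Finset.sum_comm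
        refine Finset.sum_congr rfl fun s' _ => Finset.sum_comm.trans ?_
        refine Finset.sum_congr rfl fun s _ => Finset.sum_congr rfl fun i _ => ?_
        ring
    _ = (Nat.card Y : ℂ)⁻¹ * ((Nat.card Y : ℂ)⁻¹ * ∑ s : Y, conj (wfun p V η s) *
          ((Nat.card Y : ℂ) * wfun p V η s)) := by
        congr 2
        refine Finset.sum_congr rfl fun s _ => ?_
        rw [← hcount s, Finset.mul_sum]
        exact Finset.sum_congr rfl fun s' _ => by rw [horth']; ring
    _ = _ := by
        congr 1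
        rw [Finset.mul_sum]
        refine Finset.sum_congr rfl fun s _ => ?_
        have h0 : (Nat.card Y : ℂ) ≠ 0 := Characters.natCard_ne_zero
        simp only [wfun]
        split_ifs
        · simp
        · rw [map_mul, Complex.conj_natCast]
          field_simp

include hab

open Classical in
/-- The sum of the squares is a natural number. -/
theorem exists_nat_sum_dcoef_sq :
    ∃ C : ℕ, ∑ i, dcoef p (f i) η * conj (dcoef p (f i) η) = C := by
  haveI := IsPModular.isPrime hM
  rw [sum_dcoef_sq hV hM hη f hf horth]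
  have hW : ∀ v : Y, ∃ N : ℕ, ∑ g : Y,
      (if Commute v g then (η : Y → ℂ) g * conj ((η : Y → ℂ) g) else 0) =
        (Nat.card (Subgroup.centralizer ({v} : Set Y)) : ℂ) * N := by
    intro v
    set H := Subgroup.centralizer ({v} : Set Y)
    haveI := Fintype.ofFinite H
    obtain ⟨N, hN⟩ := Characters.classInner_characters
      (Characters.isCharacter_restrict H (Characters.isCharacter_of_isIrr η.2))
      (Characters.isCharacter_restrict H (Characters.isCharacter_of_isIrr η.2))
    refine ⟨N, ?_⟩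
    rw [← hN, Cfsg.classInner, ← mul_assoc, mul_inv_cancel₀ Characters.natCard_ne_zero, one_mul,
      ← Finset.sum_filter]
    refine Finset.sum_subtype _ (fun g => ?_) _
    rw [Finset.mem_filter, Subgroup.mem_centralizer_singleton_iff]
    exact ⟨fun h => h.2.eq.symm, fun h => ⟨Finset.mem_univ _, h.symm⟩⟩
  choose N hN using hW
  have hNinv : ∀ v h : Y, N (h * v * h⁻¹) = N v := by
    intro v h
    have hidx : Nat.card (Subgroup.centralizer ({h * v * h⁻¹} : Set Y)) =
        Nat.card (Subgroup.centralizer ({v} : Set Y)) := by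
      rw [centralizer_singleton_conj, Subgroup.card_map_of_injective
        (f := (MulAut.conj h).toMonoidHom) (MulAut.conj h).injective]
    have hsum : ∑ g : Y, (if Commute (h * v * h⁻¹) g then
          (η : Y → ℂ) g * conj ((η : Y → ℂ) g) else 0) =
        ∑ g : Y, (if Commute v g then (η : Y → ℂ) g * conj ((η : Y → ℂ) g) else 0) := by
      refine (Fintype.sum_equiv (MulAut.conj h).toEquiv _ _ fun g => ?_).symm
      show _ = (if Commute (MulAut.conj h v) (MulAut.conj h g) then
        (η : Y → ℂ) (h * g * h⁻¹) * conj ((η : Y → ℂ) (h * g * h⁻¹)) else 0)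
      rw [Characters.isClassFunction_of_isIrr η.2 g h]
      exact if_congr (Commute.conj_iff h).symm rfl rfl
    rw [hN, hN, hidx] at hsum
    exact Nat.cast_injective (mul_left_cancel₀ (Nat.cast_ne_zero.2 Nat.card_pos.ne') hsum)
  obtain ⟨C, hC⟩ := exists_nat_sum_classes (V := V) N hNinv
  refine ⟨C, ?_⟩
  rw [← hC, Finset.mul_sum]
  have hrow : ∀ v : Y, (if v ∈ V then
      (N v : ℂ) / ((Subgroup.centralizer ({v} : Set Y)).index : ℂ) else 0) =
      (Nat.card Y : ℂ)⁻¹ * ∑ s : Y, if p ∣ orderOf s then 0 else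
        if v ∈ V ∧ Commute v s then
          (cfix V s : ℂ) * ((η : Y → ℂ) s * conj ((η : Y → ℂ) s)) else 0 := by
    intro v
    by_cases hv : v ∈ V
    · have h1 : ∑ g : Y, (if Commute v g then (η : Y → ℂ) g * conj ((η : Y → ℂ) g) else 0) =
          ∑ s : Y, if p ∣ orderOf s then 0 else if v ∈ V ∧ Commute v s then
            (cfix V s : ℂ) * ((η : Y → ℂ) s * conj ((η : Y → ℂ) s)) else 0 := by
        rw [Finset.sum_congr rfl (g := fun g => if pPart p g ∈ V then
          (if Commute v g then (η : Y → ℂ) g * conj ((η : Y → ℂ) g) else 0) else 0) fun g _ => by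
            by_cases hg : pPart p g ∈ V
            · rw [if_pos hg]
            · rw [if_neg hg, hη.vanish hM hg, zero_mul, ite_self], sum_pPart_mem hV]
        refine Finset.sum_congr rfl fun s _ => ?_
        split_ifs with hs hvs
        · rfl
        · rw [cfix, ← nsmul_eq_mul, ← Finset.sum_const, ← Finset.sum_filter]
          refine Finset.sum_congr rfl fun w hw => ?_
          obtain ⟨-, hw, hc⟩ := Finset.mem_filter.1 hw
          have e := (pPart_rp_of_eq (orderOf_pow_of_mem hV hw) hs hc).2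
          rw [if_pos ((show Commute v w from hab v hv w hw).mul_right hvs.2),
            hη.value (g := w * s) (by
              rw [(pPart_rp_of_eq (orderOf_pow_of_mem hV hw) hs hc).1]; exact hw), e]
        · rw [← Finset.sum_filter]
          refine Finset.sum_eq_zero fun w hw => if_neg fun hc => hvs ⟨hv, ?_⟩
          obtain ⟨-, hw, -⟩ := Finset.mem_filter.1 hw
          have := ((show Commute v w from hab v hv w hw).inv_right).mul_right hc
          rwa [inv_mul_cancel_left] at this
      rw [if_pos hv, ← h1, hN, ← Subgroup.card_mul_index (Subgroup.centralizer ({v} : Set Y)),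
        Nat.cast_mul]
      have h2 : (Nat.card (Subgroup.centralizer ({v} : Set Y)) : ℂ) ≠ 0 :=
        Nat.cast_ne_zero.2 Nat.card_pos.ne'
      have h3 : ((Subgroup.centralizer ({v} : Set Y)).index : ℂ) ≠ 0 :=
        Nat.cast_ne_zero.2 Subgroup.index_ne_zero_of_finite
      field_simp
    · simp [hv]
  rw [Finset.sum_congr rfl fun v _ => hrow v]
  simp only [Finset.mul_sum]
  rw [Finset.sum_comm]
  refine Finset.sum_congr rfl fun s _ => ?_
  rw [← Finset.mul_sum]
  congr 1
  split_ifs
  · simp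
  · rw [← Finset.sum_filter, Finset.sum_const, nsmul_eq_mul, cfix]
    ring

open Classical in
/-- The contribution of `η` is `|V|`, and `η` vanishes outside the centralizer of `V`. -/
theorem contribution_eq [M.IsPrime] (S : Set ι) (hout : ∀ i, i ∉ S → dcoef p (f i) η = 0)
    (hS : ∀ x y : Y, Cfsg.MemLocalRing M ((Nat.card V : ℂ)⁻¹ *
      ∑ i, if i ∈ S then f i x * conj (f i y) else 0)) :
    ∑ i, dcoef p (f i) η * conj (dcoef p (f i) η) = (Nat.card V : ℂ) ∧
      ∀ g : Y, g ∉ Subgroup.centralizer (V : Set Y) → (η : Y → ℂ) g = 0 := by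
  obtain ⟨C, hC⟩ := exists_nat_sum_dcoef_sq hV hab hM hη f hf horth
  -- real form
  set T : Y → ℝ := fun s => if p ∣ orderOf s then 0 else Complex.normSq ((η : Y → ℂ) s)
  have hT0 : ∀ s, 0 ≤ T s := fun s => by
    simp only [T]; split_ifs
    · exact le_rfl
    · exact Complex.normSq_nonneg _
  have h1 : (C : ℝ) = (Nat.card Y : ℝ)⁻¹ * ∑ s, (cfix V s : ℝ) ^ 2 * T s := by
    have h := (sum_dcoef_sq hV hM hη f hf horth).symm.trans hC
    apply Complex.ofReal_injective
    push_cast
    rw [← h]
    congr 1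
    refine Finset.sum_congr rfl fun s _ => ?_
    simp only [T]
    split_ifs
    · simp
    · rw [← Complex.mul_conj]
  have h2 : (1 : ℝ) = (Nat.card Y : ℝ)⁻¹ * ∑ s, (cfix V s : ℝ) * T s := by
    have h := DZ.orthonormal hV hM hη hη
    rw [if_pos rfl] at h
    apply Complex.ofReal_injective
    push_cast
    rw [← h]
    congr 1
    refine Finset.sum_congr rfl fun s _ => ?_
    simp only [T]
    split_ifs
    · simp
    · rw [← Complex.mul_conj]
  have hY : (0 : ℝ) < (Nat.card Y : ℝ)⁻¹ := inv_pos.2 (Nat.cast_pos.2 Nat.card_pos)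
  have hge : (1 : ℝ) ≤ C := by
    rw [h1, h2]
    refine mul_le_mul_of_nonneg_left (Finset.sum_le_sum fun s _ => ?_) hY.le
    refine mul_le_mul_of_nonneg_right ?_ (hT0 s)
    have : (1 : ℝ) ≤ cfix V s := by exact_mod_cast cfix_pos (V := V) s
    nlinarith
  have hC0 : C ≠ 0 := fun h => by rw [h, Nat.cast_zero] at hge; linarith
  -- divisibility
  have hdvd : Nat.card V ∣ C := by
    obtain ⟨k, hk⟩ := IsPGroup.iff_card.1 hV
    obtain ⟨g0, hg0⟩ := hη.exists_unit hM
    haveI := Fintype.ofFinite (Y ⧸ V)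
    obtain ⟨a, ha, ha', hcomb⟩ := hη.exists_comb hV hM
    have hloc : Cfsg.MemLocalRing M ((η : Y → ℂ) g0) := memLocalRing_char η g0
    have hu : IsUnit (⟨_, hloc⟩ : localRing M) := by
      by_contra h
      exact hg0 ((not_isUnit_iff _).1 h)
    obtain ⟨w, hw⟩ := hu.exists_right_inv
    have hconjv : conj ((η : Y → ℂ) g0⁻¹) = (η : Y → ℂ) g0 := by
      rw [Characters.character_inv (Characters.isCharacter_of_isIrr η.2), Complex.conj_conj]
    have key : Cfsg.MemLocalRing M
        ((Nat.card V : ℂ)⁻¹ * C * ((η : Y → ℂ) g0 * (η : Y → ℂ) g0)) := by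
      have e : (Nat.card V : ℂ)⁻¹ * C * ((η : Y → ℂ) g0 * (η : Y → ℂ) g0) =
          ∑ q : Y ⧸ V, ∑ t : Y ⧸ V, a q * conj (a t) * ((Nat.card V : ℂ)⁻¹ *
            ∑ i, if i ∈ S then
              f i (rp p (q.out * g0)) * conj (f i (rp p (t.out * g0⁻¹))) else 0) := by
        rw [← hC, Finset.mul_sum, Finset.sum_mul]
        rw [Finset.sum_congr rfl (g := fun i => (Nat.card V : ℂ)⁻¹ * if i ∈ S then
          (dcoef p (f i) η * (η : Y → ℂ) g0) *
            conj (dcoef p (f i) η * (η : Y → ℂ) g0⁻¹) else 0) fun i _ => by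
              split_ifs with hi
              · rw [map_mul, hconjv]; ring
              · rw [hout i hi]; ring]
        simp only [Finset.mul_sum (R := ℂ) (s := (Finset.univ : Finset ι))]
        refine Eq.trans ?_ ((Finset.sum_congr rfl fun q _ => Finset.sum_comm).trans
          Finset.sum_comm).symm
        refine Finset.sum_congr rfl fun i _ => ?_
        split_ifs
        · rw [hcomb _ (hf i), hcomb _ (hf i), map_sum, Finset.sum_mul, Finset.mul_sum]
          refine Finset.sum_congr rfl fun q _ => ?_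
          rw [Finset.mul_sum, Finset.mul_sum]
          refine Finset.sum_congr rfl fun t _ => ?_
          rw [map_mul]; ring
        · simp
      rw [e]
      exact Subring.sum_mem (localRing M) fun q _ => Subring.sum_mem _ fun t _ =>
        Subring.mul_mem _ (Subring.mul_mem _ (ha q) (ha' t)) (hS _ _)
    have key2 : Cfsg.MemLocalRing M ((Nat.card V : ℂ)⁻¹ * C) := by
      have e1 : (η : Y → ℂ) g0 * (w : ℂ) = 1 := congrArg Subtype.val hw
      have := Subring.mul_mem (localRing M) key (Subring.mul_mem (localRing M) w.2 w.2)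
      rwa [show (Nat.card V : ℂ)⁻¹ * C * ((η : Y → ℂ) g0 * (η : Y → ℂ) g0) * ((w : ℂ) * w) =
        (Nat.card V : ℂ)⁻¹ * C * (((η : Y → ℂ) g0 * w) * ((η : Y → ℂ) g0 * w)) by ring,
        e1, mul_one, mul_one] at this
    rw [hk] at key2 ⊢
    exact pow_dvd_of_memLocalRing hM hC0 key2
  have hle : (Nat.card V : ℝ) ≤ C := by exact_mod_cast Nat.le_of_dvd (Nat.pos_of_ne_zero hC0) hdvd
  have hterm : ∀ s, (cfix V s : ℝ) ^ 2 * T s ≤ (Nat.card V : ℝ) * ((cfix V s : ℝ) * T s) := by
    intro s
    have : (cfix V s : ℝ) ≤ (Nat.card V : ℝ) := by exact_mod_cast cfix_le (V := V) s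
    rw [sq, mul_assoc]
    exact mul_le_mul_of_nonneg_right this (mul_nonneg (Nat.cast_nonneg _) (hT0 s))
  have hup : (C : ℝ) ≤ Nat.card V := by
    calc (C : ℝ) ≤ (Nat.card Y : ℝ)⁻¹ * ∑ s, (Nat.card V : ℝ) * ((cfix V s : ℝ) * T s) :=
          h1 ▸ mul_le_mul_of_nonneg_left (Finset.sum_le_sum fun s _ => hterm s) hY.le
      _ = (Nat.card V : ℝ) := by rw [← Finset.mul_sum, mul_left_comm, ← h2, mul_one]
  have heq : (C : ℝ) = Nat.card V := le_antisymm hup hle
  refine ⟨by rw [hC]; exact_mod_cast congrArg (fun r : ℝ => (r : ℂ)) heq, fun g hg => ?_⟩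
  have hsum : ∑ s, (cfix V s : ℝ) ^ 2 * T s = ∑ s, (Nat.card V : ℝ) * ((cfix V s : ℝ) * T s) := by
    refine mul_left_cancel₀ hY.ne' ?_
    rw [← h1, heq, ← Finset.mul_sum, mul_left_comm, ← h2, mul_one]
  by_cases hgV : pPart p g ∈ V
  · rw [hη.value hgV]
    have hr : rp p g ∉ Subgroup.centralizer (V : Set Y) := fun h => hg (by
      rw [← pPart_mul_rp (p := p) g]
      exact Subgroup.mul_mem _
        (Subgroup.mem_centralizer_iff.2 fun w hw => hab w hw _ hgV) h)
    have h := (Finset.sum_eq_sum_iff_of_le fun s _ => hterm s).1 hsum (rp p g) (Finset.mem_univ _)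
    by_contra hne
    have hTpos : 0 < T (rp p g) := by
      simp only [T, if_neg (rp_spec g).2]
      exact Complex.normSq_pos.2 hne
    have hc : (0 : ℝ) < cfix V (rp p g) := by exact_mod_cast cfix_pos (V := V) (rp p g)
    refine hr ((cfix_eq_iff _).1 ?_)
    have : (cfix V (rp p g) : ℝ) = Nat.card V := by
      refine mul_right_cancel₀ (mul_ne_zero hc.ne' hTpos.ne') ?_
      rw [← h]; ring
    exact_mod_cast this
  · exact hη.vanish hM hgV

end Contribution

end CfsgLib.EqualDegree
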