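import Cfsg.Agent.EqualDegree.Quotient
import Cfsg.Agent.BlockPairs.Covering
import Cfsg.Agent.BlockPairs.Nilpotent
import Cfsg.Agent.BlockPairs.PairBridge

/-!
# Blocks with normal defect group

With a normal maximal pair `(P, e)` all subgroups are fully centralized and every map of the fusion
system extends to `P`, so the block is nilpotent once the p-regular elements of the stabilizer of
`(P, e)` centralize `P`.  Equal height-zero degrees provide this.
-/

set_option autoImplicit false
set_option linter.style.haveILetI false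
set_option linter.unusedSectionVars false

namespace CfsgLib.EqualDegree

open Cfsg CfsgLib.BlockPairs

section Model

variable {k : Type*} [Field k] {G : Type*} [Group G] [Finite G] {p : ℕ} [hp : Fact p.Prime]
  [CharP k p] [IsAlgClosed k] {P Q : Subgroup G} [hPn : P.Normal] {b e f : GA k G}

theorem cj_normal (g : G) : cj g P = P := cj_eq_self (by rw [Subgroup.normalizer_eq_top]; trivial)

/-- Every subgroup of a normal defect group is fully centralized. -/
theorem defect_centralizer_of_normal (hb : IsBlock (⊤ : Subgroup G) b)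
    (hmax : IsMaxPair p ⊤ b P e) (hle : Le p ⊤ Q f P e) :
    IsDefectGrp p (Subgroup.centralizer (Q : Set G)) f
      (P ⊓ Subgroup.centralizer (Q : Set G)) := by
  refine (isFullyCentralized_iff hb hmax hle).1 ⟨hle.subgroup_le, fun R hR => ?_⟩
  obtain ⟨g, -, rfl⟩ := isConj_iff_mor.1 hR
  have : Cfsg.FusionSystem.centralizerIn P (cj g Q) =
      cj g (Cfsg.FusionSystem.centralizerIn P Q) := by
    rw [Cfsg.FusionSystem.centralizerIn, Cfsg.FusionSystem.centralizerIn, ← cj_centralizer_eq,
      show cj g (P ⊓ Subgroup.centralizer (Q : Set G)) =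
        cj g P ⊓ cj g (Subgroup.centralizer (Q : Set G)) from
        Subgroup.map_inf _ _ _ (MulAut.conj g).injective, cj_normal (P := P) g]
  rw [this, card_cj]

/-- Every map extends to the normal defect group. -/
theorem exists_mul_mem_stab (hb : IsBlock (⊤ : Subgroup G) b) (hmax : IsMaxPair p ⊤ b P e) :
    ∀ (n : ℕ) (R : Subgroup G) (g : G), Nat.card P - Nat.card R ≤ n → Mor p P e R g →
      ∃ c ∈ Subgroup.centralizer ((cj g R : Subgroup G) : Set G), c * g ∈ stab ⊤ P e := by
  have htop : ∀ g, Mor p P e P g → g ∈ stab ⊤ P e := fun g hg =>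
    (mor_self_iff Le.refl' (by rw [Subgroup.normalizer_eq_top]; trivial)).1 hg
  intro n
  induction n with
  | zero =>
    intro R g hn hg
    obtain rfl : R = P := Subgroup.eq_of_le_of_card_ge hg.source_le (by omega)
    exact ⟨1, one_mem _, by rw [one_mul]; exact htop g hg⟩
  | succ n ih =>
    intro R g hn hg
    by_cases hRP : R = P
    · subst hRP
      exact ⟨1, one_mem _, by rw [one_mul]; exact htop g hg⟩
    set N := P ⊓ Subgroup.normalizer (R : Set G) with hN
    have hRN : R ≤ N := le_inf hg.source_le Subgroup.le_normalizer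
    have hlt : R < N := by
      refine lt_of_le_of_ne hRN fun hEq => hRP ?_
      haveI := hmax.1.1.2.1.isNilpotent
      have hnc := Group.normalizerCondition_of_isNilpotent (G := P) (R.subgroupOf P)
      by_contra hne
      have hlt' : R.subgroupOf P < ⊤ := lt_top_iff_ne_top.2 fun h =>
        hne (le_antisymm hg.source_le (Subgroup.subgroupOf_eq_top.1 h))
      obtain ⟨u, hu, hu'⟩ := SetLike.exists_of_lt (hnc hlt')
      refine hu' (Subgroup.mem_subgroupOf.2 ?_)
      rw [hEq]
      refine ⟨u.2, Subgroup.mem_normalizer_iff.2 fun y => ?_⟩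
      constructor
      · intro hy
        have := (Subgroup.mem_normalizer_iff.1 hu ⟨y, hg.source_le hy⟩).1
          (Subgroup.mem_subgroupOf.2 hy)
        exact Subgroup.mem_subgroupOf.1 this
      · intro hy
        have hyP : y ∈ P := by
          have := hPn.conj_mem _ (hg.source_le hy) (u : G)⁻¹
          simpa [mul_assoc] using this
        exact Subgroup.mem_subgroupOf.1 ((Subgroup.mem_normalizer_iff.1 hu ⟨y, hyP⟩).2
          (Subgroup.mem_subgroupOf.2 hy))
    obtain ⟨f, -, hle⟩ := exists_below hmax.1.1 hg.target_le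
    obtain ⟨c, hc, hmor⟩ := exists_extension hb hmax hle (defect_centralizer_of_normal hb hmax hle)
      hg rfl hRN inf_le_left inf_le_right fun u hu => Subgroup.mem_sup_left
        ⟨hPn.conj_mem u hu.1 g, by
          refine mem_normalizer_of_cj_eq ?_
          conv_lhs => rw [cj_cj, inv_mul_cancel_right, ← cj_cj, cj_eq_self hu.2]⟩
    have hcard : Nat.card R < Nat.card N := by
      refine lt_of_le_of_ne (Subgroup.card_le_of_le hRN) fun h => ?_
      exact hlt.ne (Subgroup.eq_of_le_of_card_ge hRN h.ge)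
    obtain ⟨c', hc', hst⟩ := ih N (c * g) (by omega) hmor
    refine ⟨c' * c, mul_mem ?_ hc, by rw [mul_assoc]; exact hst⟩
    have hsub : cj g R ≤ cj (c * g) N := by
      rw [← cj_cj]
      conv_lhs => rw [← cj_eq_of_centralizer hc]
      exact cj_mono c (cj_mono g hRN)
    exact Subgroup.centralizer_le (SetLike.coe_subset_coe.2 hsub) hc'

/-- With a normal defect group nilpotency is read off at the maximal pair. -/
theorem nilp_of_normal (hb : IsBlock (⊤ : Subgroup G) b) (hmax : IsMaxPair p ⊤ b P e)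
    (h : ∀ x ∈ stab ⊤ P e, Cfsg.IsPRegular p x → x ∈ Subgroup.centralizer (P : Set G)) :
    Nilp p ⊤ b := by
  refine (nilp_iff_below hb hmax).2 fun Q f hle x hx hreg => ?_
  have hxN := stab_le_normalizer hx
  obtain ⟨c, hc, hy⟩ := exists_mul_mem_stab hb hmax _ Q x le_rfl
    ((mor_self_iff hle hxN).2 hx)
  rw [cj_eq_self hxN] at hc
  have hcN := Subgroup.centralizer_le_normalizer _ hc
  set φ := Q.normalizerMonoidHom with hφ
  have hφc : φ ⟨c, hcN⟩ = 1 := by
    rw [← MonoidHom.mem_ker, hφ, Subgroup.normalizerMonoidHom_ker, Subgroup.mem_subgroupOf]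
    exact hc
  obtain ⟨a, m, hm, hord⟩ :=
    Nat.exists_eq_pow_mul_and_not_dvd (orderOf_pos (c * x)).ne' p hp.out.ne_one
  have hyreg : Cfsg.IsPRegular p ((c * x) ^ p ^ a) := fun hdvd => hm <| hdvd.trans (by
    rw [orderOf_pow' _ (pow_ne_zero _ hp.out.ne_zero), hord,
      Nat.gcd_eq_right (Dvd.intro m rfl), Nat.mul_div_cancel_left _ (pow_pos hp.out.pos a)])
  have hcent := Subgroup.centralizer_le (SetLike.coe_subset_coe.2 hle.subgroup_le)
    (h _ (pow_mem hy _) hyreg)
  have h1 : φ ⟨x, hxN⟩ ^ p ^ a = 1 := by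
    have : φ ⟨c * x, mul_mem hcN hxN⟩ = φ ⟨x, hxN⟩ := by
      rw [show (⟨c * x, mul_mem hcN hxN⟩ : Subgroup.normalizer (Q : Set G)) =
        ⟨c, hcN⟩ * ⟨x, hxN⟩ from rfl, map_mul, hφc, one_mul]
    rw [← this, ← map_pow, ← MonoidHom.mem_ker, hφ, Subgroup.normalizerMonoidHom_ker,
      Subgroup.mem_subgroupOf, Subgroup.coe_pow]
    exact hcent
  have h2 : φ ⟨x, hxN⟩ ^ orderOf x = 1 := by
    rw [← map_pow, show (⟨x, hxN⟩ : Subgroup.normalizer (Q : Set G)) ^ orderOf x = 1 from
      Subtype.ext (pow_orderOf_eq_one x), map_one]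
  have h3 : φ ⟨x, hxN⟩ = 1 := by
    rw [← orderOf_eq_one_iff]
    exact Nat.eq_one_of_dvd_coprimes ((hp.out.coprime_iff_not_dvd.2 hreg).pow_left a)
      (orderOf_dvd_of_pow_eq_one h1) (orderOf_dvd_of_pow_eq_one h2)
  rw [← MonoidHom.mem_ker, hφ, Subgroup.normalizerMonoidHom_ker, Subgroup.mem_subgroupOf] at h3
  exact h3

end Model

section Bridge

open CfsgLib.Blocks (Res isPBlock_blockOf mem_blockOf_self)
open CfsgLib.BlocksLocal (conjIrr)

universe u

variable {G : Type u} [Group G] [Fintype G] {p : ℕ} [Fact p.Prime] {M : Ideal AlgInt} [M.IsPrime]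
  [CharP (Res M) p] [IsAlgClosed (Res M)] {B : Set (IrrCharacter G)} {D : Subgroup G} [D.Normal]

local notation "LL" => D ⊔ Subgroup.centralizer (D : Set G)

/-- Equal height-zero degrees over a normal defect group force nilpotency. -/
theorem isNilpotentBlock_of_equal_degrees (hM : Cfsg.IsPModular p M) (hB : Cfsg.IsPBlock M B)
    (hD : Cfsg.IsDefectGroup p M B D) {d : ℕ}
    (hd : ∀ χ ∈ B, Cfsg.blockHeight p B ((χ : IrrCharacter G) : G → ℂ) = 0 →
      Cfsg.charDegree (χ : G → ℂ) = d) :
    Cfsg.IsNilpotentBlock p M B := by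
  classical
  have hgb := isBlock_gblk (M := M) hB
  have hdg := (isDefectGroup_gblk_iff hB D).1 hD
  obtain ⟨e, he⟩ := exists_blockHas hgb le_top hdg.2.1 hdg.2.2.1
  have hmax := isMaxPair_of_defect hdg he
  refine (isNilpotentBlock_gblk_iff hB).2 (nilp_of_normal hgb hmax fun x hx hreg => ?_)
  have hDe := hmax.1.1
  have hDp := hDe.2.1
  haveI : Fintype ↥(D ⊔ Subgroup.centralizer (D : Set G)) := Fintype.ofFinite _
  have hblk : IsBlock (LL) e := block_of_le_stab hDe le_sup_left
    (by rw [cent, top_inf_eq]; exact le_sup_right)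
    (sup_le hDe.le_stab (centralizer_le_stab hDe))
  have hdC := defect_centralizer_of_normal hgb hmax (Le.refl' (Q := D) (f := e))
  have hbr : br D e ≠ 0 := by
    have := (le_normalizer_part hmax (Le.refl' (Q := D) (f := e))).2
    rwa [inf_eq_left.2 Subgroup.le_normalizer] at this
  have hDC : D ≤ Subgroup.normalizer ((Subgroup.centralizer (D : Set G) : Subgroup G) : Set G) :=
    Subgroup.le_normalizer.trans (le_normalizer_centralizer D)
  have hdef : IsDefectGrp p (LL) e D := isDefectGrp_of_card hblk le_sup_left hDp hbr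
    fun S hS hSp hne => card_le_card_of_inf_le hDC hS
      ((hdC.card_le inf_le_left (hSp.to_le inf_le_right) fun h0 =>
        hne (br_eq_zero_of_le inf_le_right h0)).trans (Subgroup.card_le_of_le (inf_comm _ _).le))
  obtain ⟨c, hc, rfl⟩ := exists_eq_sblk (M := M) hblk
  have hcD := (isDefectGroup_subgroupOf_iff hc le_sup_left).2 hdef
  have htop : (D.subgroupOf (LL)) ⊔
      Subgroup.centralizer ((D.subgroupOf (LL) : Subgroup ↥(LL)) : Set ↥(LL)) = ⊤ := by
    refine eq_top_iff.2 fun l _ => ?_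
    obtain ⟨a, ha, z, hz, e'⟩ := Subgroup.mem_sup_of_normal_left.1 l.2
    have : l = ⟨a, Subgroup.mem_sup_left ha⟩ * ⟨z, Subgroup.mem_sup_right hz⟩ :=
      Subtype.ext e'.symm
    rw [this]
    exact Subgroup.mul_mem_sup (Subgroup.mem_subgroupOf.2 ha) (Subgroup.mem_centralizer_iff.2
      fun v hv => Subtype.ext (Subgroup.mem_centralizer_iff.1 hz _ (Subgroup.mem_subgroupOf.1 hv)))
  obtain ⟨θ, ⟨hθ, hθD⟩, huniq⟩ :=
    BlocksLocal.existsUnique_kerContains hDp.comap_subtype htop hM hc hcD
  -- `B` covers the block of `e`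
  have hcov : gblk M B * sblk M (LL) c ≠ 0 := by
    have h2 := hmax.1.2
    rw [br_eq_self_of_normal hDp le_top (by rw [Subgroup.normalizer_eq_top]) hgb.mem hgb.idem]
      at h2
    rw [h2]
    exact hblk.ne_zero
  have hind := (Cfsg.Agent.S0971.result p M hM D hDp c hc).2 B hB ((cover_iff (LL) hB hc).2 hcov)
  obtain ⟨φ, hφ, hφθ⟩ := CharactersDeep.Clifford.exists_over (G := G) (N := LL) θ.2
  have hφB : (⟨φ, hφ⟩ : IrrCharacter G) ∈ B := by
    rw [CfsgLib.Blocks.isInducedBlock_unique hind ((Cfsg.Agent.S0971.result p M hM D hDp c hc).2 _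
      (isPBlock_blockOf (⟨φ, hφ⟩ : IrrCharacter G))
      ⟨⟨φ, hφ⟩, mem_blockOf_self _, θ, hθ, hφθ⟩)]
    exact mem_blockOf_self _
  have hfix : conjIrr (LL) θ x = θ := by
    obtain ⟨-, hst⟩ := (stabilizesBlock_iff hc).2
      ⟨by rw [Subgroup.normalizer_eq_top]; trivial, hx.2⟩
    obtain ⟨θ', hθ', hrel⟩ := hst θ hθ
    have hconj : conjIrr (LL) θ' x = θ := Subtype.ext (funext fun k => by
      rw [conjIrr_apply]
      exact hrel k _ rfl)
    suffices θ' = θ by rwa [this] at hconj
    refine huniq θ' hθ' fun v hv => ?_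
    have hmem : x⁻¹ * (v : G) * x ∈ D := by
      simpa using (inferInstance : D.Normal).conj_mem (v : G) (Subgroup.mem_subgroupOf.1 hv) x⁻¹
    have h1 : (θ : ↥(LL) → ℂ) ⟨x⁻¹ * (v : G) * x, Subgroup.mem_sup_left hmem⟩ =
        (θ : ↥(LL) → ℂ) 1 := hθD _ (Subgroup.mem_subgroupOf.2 hmem)
    rw [← hconj, conjIrr_one_apply, conjIrr_apply] at h1
    refine Eq.trans (congrArg _ (Subtype.ext ?_)) h1
    show (v : G) = x * (x⁻¹ * (v : G) * x) * x⁻¹
    group
  exact centralizes_of_fixes hM hB hD hd
    (fun l hl => hθD l (Subgroup.mem_subgroupOf.2 hl)) hφB hφθ hreg hfix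

end Bridge

end CfsgLib.EqualDegree
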