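import Cfsg.Agent.EqualDegree.Abelian
import Cfsg.Agent.S4964
import Cfsg.Agent.GaloisAverage.Ito
import Cfsg.Agent.Coherence.IrrAbove

/-!
# Equal height-zero degrees over a normal defect group

Modulo the commutator subgroup of the normal defect group `D` the block lies over one with abelian
normal defect group in which all degrees are equal.  Hence a p-regular element fixing a character
of `D C(D)` trivial on `D` under the block centralizes `D`.
-/

set_option autoImplicit false
set_option linter.style.haveILetI false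
set_option linter.unusedSectionVars false
set_option maxHeartbeats 400000

namespace CfsgLib.EqualDegree

open Cfsg CfsgLib.Blocks CfsgLib.BlocksLocal CfsgLib.OddOrderChar CfsgLib.CharactersDeep.Clifford
open scoped ComplexConjugate commutatorElement

universe u

section Hom

variable {A A' : Type u} [Group A] [Group A'] [Fintype A] [Fintype A']

/-- Pullbacks of orthogonal functions stay orthogonal if one of them vanishes outside the image. -/
theorem classInner_comp_eq_zero (φ : A →* A') {f g : A' → ℂ}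
    (hf : ∀ z, z ∉ φ.range → f z = 0) (h : Cfsg.classInner f g = 0) :
    Cfsg.classInner (fun a => f (φ a)) (fun a => g (φ a)) = 0 := by
  classical
  simp only [Cfsg.classInner, mul_eq_zero, inv_eq_zero, Nat.cast_eq_zero,
    Nat.card_pos.ne', false_or] at h ⊢
  rw [Finset.sum_comp (fun z => f z * conj (g z)) φ,
    Finset.sum_congr rfl (g := fun z =>
      (Finset.univ.filter fun a => φ a = φ 1).card • (f z * conj (g z))) fun z hz => ?_,
    ← Finset.smul_sum,
    Finset.sum_subset (Finset.subset_univ _) fun z _ hz => by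
      rw [hf z fun ⟨a, ha⟩ => hz (Finset.mem_image.2 ⟨a, Finset.mem_univ a, ha⟩), zero_mul],
    h, smul_zero]
  obtain ⟨a, -, rfl⟩ := Finset.mem_image.1 hz
  rw [MonoidHom.card_fiber_eq_of_mem_range φ ⟨a, rfl⟩ ⟨1, rfl⟩]

/-- Two characters with a common constituent are not orthogonal. -/
theorem classInner_ne_zero_of_common {F F' : A → ℂ} (hF : Cfsg.IsCharacter A F)
    (hF' : Cfsg.IsCharacter A F') {θ : A → ℂ} (hθ : Cfsg.IsIrrCharacter A θ)
    (h : Cfsg.classInner F θ ≠ 0) (h' : Cfsg.classInner F' θ ≠ 0) :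
    Cfsg.classInner F F' ≠ 0 := by
  classical
  choose m hm using fun φ : IrrCharacter A => Characters.classInner_character_irr hF φ.2
  choose m' hm' using fun φ : IrrCharacter A => Characters.classInner_character_irr hF' φ.2
  have he : Cfsg.classInner F F' = ((∑ φ, m φ * m' φ : ℕ) : ℂ) := by
    conv_lhs => rw [Characters.classFunction_expansion
      (Characters.isClassFunction_of_isCharacter hF)]
    rw [Characters.classInner_sum_left]
    push_cast
    refine Finset.sum_congr rfl fun φ _ => ?_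
    rw [Characters.classInner_smul_left, hm,
      Characters.classInner_conj_symm F' (φ : A → ℂ), hm', Complex.conj_natCast]
  rw [he, Nat.cast_ne_zero]
  refine fun h0 => ?_
  rcases Nat.mul_eq_zero.1 (Finset.sum_eq_zero_iff.1 h0 ⟨θ, hθ⟩ (Finset.mem_univ _)) with h1 | h1
  · exact h (by rw [show θ = ((⟨θ, hθ⟩ : IrrCharacter A) : A → ℂ) from rfl, hm, h1, Nat.cast_zero])
  · exact h' (by rw [show θ = ((⟨θ, hθ⟩ : IrrCharacter A) : A → ℂ) from rfl, hm', h1, Nat.cast_zero])

end Hom

variable {G : Type u} [Group G] [Fintype G] {p : ℕ} [Fact p.Prime] {M : Ideal AlgInt} [M.IsPrime]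
  {B : Set (IrrCharacter G)} {D : Subgroup G} [D.Normal] {d : ℕ}

local notation "LL" => D ⊔ Subgroup.centralizer (D : Set G)
local notation "π" => QuotientGroup.mk' (⁅D, D⁆ : Subgroup G)

/-- In the quotient by `[D, D]` the degrees of a block under `B` are equal, and `D` maps onto
its defect group. -/
theorem quotient_block (hM : Cfsg.IsPModular p M) (hB : Cfsg.IsPBlock M B)
    (hD : Cfsg.IsDefectGroup p M B D)
    (hd : ∀ χ ∈ B, Cfsg.blockHeight p B ((χ : IrrCharacter G) : G → ℂ) = 0 →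
      Cfsg.charDegree (χ : G → ℂ) = d)
    [Fintype (G ⧸ (⁅D, D⁆ : Subgroup G))] {ψ : IrrCharacter (G ⧸ (⁅D, D⁆ : Subgroup G))}
    (hψ : infl (⁅D, D⁆ : Subgroup G) ψ ∈ B) :
    (∀ η ∈ Cfsg.blockOf M (ψ : G ⧸ (⁅D, D⁆ : Subgroup G) → ℂ),
        Cfsg.charDegree ((η : IrrCharacter _) : G ⧸ (⁅D, D⁆ : Subgroup G) → ℂ) = d) ∧
      Cfsg.IsDefectGroup p M (Cfsg.blockOf M (ψ : G ⧸ (⁅D, D⁆ : Subgroup G) → ℂ)) (D.map π) := by
  have hp : p.Prime := Fact.out
  haveI hD1 : (D.map π).Normal :=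
    Subgroup.Normal.map ‹D.Normal› _ (QuotientGroup.mk'_surjective _)
  have hab : ∀ a ∈ D.map π, ∀ c ∈ D.map π, a * c = c * a := by
    rintro _ ⟨a, ha, rfl⟩ _ ⟨c, hc, rfl⟩
    rw [← commutatorElement_eq_one_iff_mul_comm, ← map_commutatorElement,
      QuotientGroup.mk'_apply, QuotientGroup.eq_one_iff]
    exact Subgroup.commutator_mem_commutator ha hc
  have hidx : (D.map π).index = D.index :=
    Subgroup.index_map_eq D (QuotientGroup.mk'_surjective _)
      (by rw [QuotientGroup.ker_mk']; exact Subgroup.commutator_le_right D D)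
  have hG : (Nat.card G).factorization p =
      (Nat.card D).factorization p + D.index.factorization p := by
    rw [← Subgroup.card_mul_index D, Nat.factorization_mul Nat.card_pos.ne'
      Subgroup.index_ne_zero_of_finite, Finsupp.add_apply]
  have key : ∀ η ∈ Cfsg.blockOf M (ψ : G ⧸ (⁅D, D⁆ : Subgroup G) → ℂ),
      Cfsg.charDegree ((η : IrrCharacter _) : G ⧸ (⁅D, D⁆ : Subgroup G) → ℂ) = d ∧
        (Cfsg.charDegree ((η : IrrCharacter _) : G ⧸ (⁅D, D⁆ : Subgroup G) → ℂ)).factorization p =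
          D.index.factorization p := by
    intro η hη
    have hmem : infl (⁅D, D⁆ : Subgroup G) η ∈ B := by
      rw [eq_blockOf_of_mem hB hψ, mem_blockOf]
      exact sameBlock_infl _ (mem_blockOf.1 hη)
    have hdeg : Cfsg.charDegree ((infl (⁅D, D⁆ : Subgroup G) η : IrrCharacter G) : G → ℂ) =
        Cfsg.charDegree (η : G ⧸ (⁅D, D⁆ : Subgroup G) → ℂ) := by
      simp [Cfsg.charDegree, infl_apply]
    obtain ⟨e, he, hdvd⟩ := GaloisAverage.exists_degree_dvd_index η.2 _ hab
    rw [← charDegree_cast η, Nat.cast_inj] at he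
    subst he
    rw [hidx] at hdvd
    have hle := (Nat.factorization_le_iff_dvd (charDegree_ne_zero η)
      Subgroup.index_ne_zero_of_finite).2 hdvd p
    have hh := blockHeight_eq hM hB hD hmem
    have hge := defect_add_degree_ge hM hB hD hmem
    rw [hdeg] at hh hge
    refine ⟨?_, by omega⟩
    rw [← hdeg]
    exact hd _ hmem (by omega)
  refine ⟨fun η hη => (key η hη).1, ?_⟩
  have hB1 := isPBlock_blockOf (M := M) ψ
  obtain ⟨R, hR⟩ := exists_isDefectGroup (p := p) hB1
  have hP1 : IsPGroup p (D.map π) := (IsDefectGroup.isPGroup hD).map _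
  have hle := IsDefectGroup.le_of_normal hM hB1 hR _ hP1
  obtain ⟨η, hη, he⟩ := exists_degree_eq hM hB1 hR
  rw [(key η hη).2, ← Subgroup.card_mul_index (D.map π), Nat.factorization_mul Nat.card_pos.ne'
    Subgroup.index_ne_zero_of_finite, Finsupp.add_apply, hidx] at he
  suffices D.map π = R by rwa [this]
  refine Subgroup.eq_of_le_of_card_ge hle (le_of_eq ?_)
  obtain ⟨a, ha⟩ := IsPGroup.iff_card.1 hP1
  obtain ⟨c, hc⟩ := IsPGroup.iff_card.1 (IsDefectGroup.isPGroup hR)
  rw [ha, hc, hp.factorization_pow, hp.factorization_pow, Finsupp.single_eq_same,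
    Finsupp.single_eq_same] at he
  rw [ha, hc, show c = a by omega]

variable [Fintype ↥(D ⊔ Subgroup.centralizer (D : Set G))]

/-- A p-regular element fixing a character trivial on `D` under the block centralizes `D`. -/
theorem centralizes_of_fixes (hM : Cfsg.IsPModular p M) (hB : Cfsg.IsPBlock M B)
    (hD : Cfsg.IsDefectGroup p M B D)
    (hd : ∀ χ ∈ B, Cfsg.blockHeight p B ((χ : IrrCharacter G) : G → ℂ) = 0 →
      Cfsg.charDegree (χ : G → ℂ) = d)
    {θ : IrrCharacter ↥LL}
    (hθD : ∀ l : ↥LL, (l : G) ∈ D → (θ : ↥LL → ℂ) l = (θ : ↥LL → ℂ) 1)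
    {χ : IrrCharacter G} (hχ : χ ∈ B)
    (hcov : Cfsg.classInner (fun l : ↥LL => (χ : G → ℂ) l) (θ : ↥LL → ℂ) ≠ 0)
    {x : G} (hx : ¬ p ∣ orderOf x) (hfix : conjIrr LL θ x = θ) :
    x ∈ Subgroup.centralizer (D : Set G) := by
  classical
  have hDp := IsDefectGroup.isPGroup hD
  -- `χ` is trivial on `D`
  have hχD : ∀ a ∈ D, (χ : G → ℂ) a = (χ : G → ℂ) 1 := by
    intro a ha
    have hr := restrict_eq_orbit_sum LL χ.2 θ.2 hcov
    have h1 := congrFun hr ⟨a, Subgroup.mem_sup_left ha⟩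
    have h2 := congrFun hr 1
    simp only [Pi.smul_apply, Finset.sum_apply, Subgroup.coe_one] at h1 h2
    rw [h1, h2]
    congr 1
    refine Finset.sum_congr rfl fun φ hφ => ?_
    obtain ⟨g, rfl⟩ := (mem_orbit LL).1 hφ
    rw [← coe_conjIrr, conjIrr_one_apply, conjIrr_apply]
    exact hθD _ ((inferInstance : D.Normal).conj_mem a ha g)
  haveI := Fintype.ofFinite (G ⧸ (⁅D, D⁆ : Subgroup G))
  haveI hD1 : (D.map π).Normal :=
    Subgroup.Normal.map ‹D.Normal› _ (QuotientGroup.mk'_surjective _)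
  set L1 := (D.map π) ⊔ Subgroup.centralizer
    ((D.map π : Subgroup _) : Set (G ⧸ (⁅D, D⁆ : Subgroup G))) with hL1
  haveI := Fintype.ofFinite ↥L1
  obtain ⟨ψ, hψ, hψv⟩ := Characters.exists_irr_quotient (⁅D, D⁆ : Subgroup G) χ.2
    fun a ha => hχD a (Subgroup.commutator_le_right D D ha)
  obtain ⟨hdeg, hdef⟩ := quotient_block (ψ := ⟨ψ, hψ⟩) hM hB hD hd (by
    rwa [show infl (⁅D, D⁆ : Subgroup G) ⟨ψ, hψ⟩ = χ from Subtype.ext (funext fun g => by
      rw [infl_apply, hψv])])
  have hB1 := isPBlock_blockOf (M := M) (⟨ψ, hψ⟩ : IrrCharacter (G ⧸ (⁅D, D⁆ : Subgroup G)))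
  obtain ⟨b, hb, hind⟩ := exists_sub_block hM hB1 hdef
    (L := L1) le_sup_left le_sup_right (by rw [Subgroup.normalizer_eq_top]; exact le_top)
  have hS : Setting p M (Cfsg.blockOf M ψ) (D.map π) b :=
    { hM := hM
      hB := hB1
      hD := hdef
      ab := by
        rintro _ ⟨a, ha, rfl⟩ _ ⟨c, hc, rfl⟩
        rw [← commutatorElement_eq_one_iff_mul_comm, ← map_commutatorElement,
          QuotientGroup.mk'_apply, QuotientGroup.eq_one_iff]
        exact Subgroup.commutator_mem_commutator ha hc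
      hb := hb
      hind := hind }
  -- the map into `D C(D)` of the quotient
  have hmap : ∀ l : ↥LL, π (l : G) ∈ L1 := by
    intro l
    have h1 : (LL).map π ≤ L1 := by
      rw [Subgroup.map_sup]
      refine sup_le_sup le_rfl ?_
      rintro _ ⟨c, hc, rfl⟩
      refine Subgroup.mem_centralizer_iff.2 ?_
      rintro _ ⟨a, ha, rfl⟩
      rw [← map_mul, ← map_mul, Subgroup.mem_centralizer_iff.1 hc a ha]
    exact h1 (Subgroup.mem_map_of_mem _ l.2)
  let φ : ↥LL →* ↥L1 := ((QuotientGroup.mk' (⁅D, D⁆ : Subgroup G)).comp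
    (Subgroup.subtype LL)).codRestrict L1 hmap
  have hrange : ∀ w ∈ Om (D.map π) b, ∀ z, z ∉ φ.range → (w : ↥L1 → ℂ) z = 0 := by
    intro w hw z hz
    have hDZ : DZ p ((D.map π).subgroupOf L1) w :=
      ⟨fun v hv => hw.2 v (Subgroup.mem_subgroupOf.1 hv), hS.factorization_degree hw⟩
    refine hDZ.vanish hM fun hv => hz ?_
    rw [← pPart_mul_rp (p := p) z]
    refine mul_mem ?_ ?_
    · obtain ⟨a, ha, he⟩ := Subgroup.mem_subgroupOf.1 hv
      exact ⟨⟨a, Subgroup.mem_sup_left ha⟩, Subtype.ext he⟩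
    · obtain ⟨g, hg, he⟩ := Cfsg.Agent.S4964.exists_regular_lift (⁅D, D⁆ : Subgroup G)
        (y := ((rp p z : ↥L1) : G ⧸ (⁅D, D⁆ : Subgroup G)))
        (by rw [Subgroup.orderOf_coe]; exact (rp_spec z).2)
      refine ⟨⟨g, Subgroup.mem_sup_right ?_⟩, Subtype.ext he⟩
      exact Cfsg.Agent.S4964.commute_of_mem_centralizer_quotient D hDp hg
        (he ▸ hS.le_centralizer (rp p z).2)
  have hchar : ∀ w : IrrCharacter ↥L1,
      Cfsg.IsCharacter ↥LL (fun l => (w : ↥L1 → ℂ) (φ l)) := fun w =>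
    Characters.isCharacter_comp φ (Characters.isCharacter_of_isIrr w.2)
  -- a member of `Om` over `θ`
  obtain ⟨w, hw, hwθ⟩ : ∃ w ∈ Om (D.map π) b,
      Cfsg.classInner (fun l : ↥LL => (w : ↥L1 → ℂ) (φ l)) (θ : ↥LL → ℂ) ≠ 0 := by
    have hcf : Cfsg.IsClassFunction ↥L1 (fun z : ↥L1 => ψ (z : G ⧸ (⁅D, D⁆ : Subgroup G))) :=
      Characters.isClassFunction_of_isCharacter
        (Characters.isCharacter_restrict L1 (Characters.isCharacter_of_isIrr hψ))
    have hexp := Characters.classFunction_expansion hcf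
    have heq : (fun l : ↥LL => (χ : G → ℂ) l) = ∑ w : IrrCharacter ↥L1,
        Cfsg.classInner (fun z : ↥L1 => ψ (z : G ⧸ (⁅D, D⁆ : Subgroup G))) (w : ↥L1 → ℂ) •
          fun l : ↥LL => (w : ↥L1 → ℂ) (φ l) := by
      funext l
      have h1 := congrFun hexp (φ l)
      simp only [Finset.sum_apply, Pi.smul_apply] at h1 ⊢
      exact (hψv l).trans h1
    rw [heq, Characters.classInner_sum_left] at hcov
    obtain ⟨w, -, hw⟩ := Finset.exists_ne_zero_of_sum_ne_zero hcov
    rw [Characters.classInner_smul_left, mul_ne_zero_iff] at hw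
    have hm : (⟨ψ, hψ⟩ : IrrCharacter (G ⧸ (⁅D, D⁆ : Subgroup G))) ∈ Cfsg.blockOf M
        ((⟨ψ, hψ⟩ : IrrCharacter (G ⧸ (⁅D, D⁆ : Subgroup G))) : G ⧸ (⁅D, D⁆ : Subgroup G) → ℂ) :=
      mem_blockOf_self _
    have hcs := hS.constituent_mem hm (θ := w)
    refine ⟨w, ⟨hcs hw.1, fun v hv => ?_⟩, hw.2⟩
    refine Coherence.constituent_trivial (Characters.isCharacter_restrict L1
      (Characters.isCharacter_of_isIrr hψ)) w.2 hw.1 ?_
    obtain ⟨a, ha, he⟩ := hv
    show ψ (v : G ⧸ (⁅D, D⁆ : Subgroup G)) = ψ ((1 : ↥L1) : G ⧸ (⁅D, D⁆ : Subgroup G))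
    rw [← he, Subgroup.coe_one, QuotientGroup.mk'_apply, ← hψv, hχD a ha, hψv,
      QuotientGroup.mk_one]
  -- its conjugate is over `θ` as well
  set w' := conjIrr L1 w (π x) with hw'def
  have hw' : w' ∈ Om (D.map π) b := conjIrr_mem_Om hw _
  have hcomp : (fun l : ↥LL => (w' : ↥L1 → ℂ) (φ l)) =
      conjBy LL (fun l => (w : ↥L1 → ℂ) (φ l)) x := by
    funext l
    refine congrArg (w : ↥L1 → ℂ) (Subtype.ext ?_)
    show π x * π (l : G) * (π x)⁻¹ = π (x * (l : G) * x⁻¹)
    rw [map_mul, map_mul, map_inv]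
  have hw'θ : Cfsg.classInner (fun l : ↥LL => (w' : ↥L1 → ℂ) (φ l)) (θ : ↥LL → ℂ) ≠ 0 := by
    have hval : conjBy LL (θ : ↥LL → ℂ) x = (θ : ↥LL → ℂ) :=
      (coe_conjIrr LL θ x).symm.trans (congrArg Subtype.val hfix)
    rw [hcomp, ← hval, classInner_conjBy]
    exact hwθ
  have hfix' : w' = w := by
    by_contra hne
    exact classInner_ne_zero_of_common (hchar w') (hchar w) θ.2 hw'θ hwθ
      (classInner_comp_eq_zero φ (hrange w' hw')
        (Characters.classInner_isIrr_ne w'.2 w.2 fun e => hne (Subtype.ext e)))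
  exact Cfsg.Agent.S4964.commute_of_mem_centralizer_quotient D hDp hx
    (hS.mem_of_fixes_Om hdeg hw hfix')

end CfsgLib.EqualDegree
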