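import Cfsg.Agent.EqualDegree.Stab
import Cfsg.Agent.BlocksCharsC.CliffordInvariant

/-!
# The sections of a block with abelian normal defect group

For `u` in the abelian normal defect group `D`, the characters of `C(u)` over `B` trivial on `D`
have defect zero modulo `D`, the values `χ (u s)` are their combinations, and, given the
divisibility of the column sums of `B` by `|D|`, they vanish outside `D C(D)`.  This bounds the
sum of `|χ (u s)|²` over the section by the fixed points of `C(u)` on `Om`.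
-/

set_option autoImplicit false
set_option linter.style.haveILetI false
set_option linter.unusedSectionVars false
set_option maxHeartbeats 400000

namespace CfsgLib.EqualDegree

open Cfsg CfsgLib.Blocks CfsgLib.BlocksLocal CfsgLib.OddOrderChar CfsgLib.CharactersDeep.Clifford
  CfsgLib.Star
open scoped ComplexConjugate

universe u

variable {G : Type u} [Group G] [Fintype G] {p : ℕ} [Fact p.Prime] {M : Ideal AlgInt} [M.IsPrime]
  {B : Set (IrrCharacter G)} {D : Subgroup G} [D.Normal]

local notation "LL" => D ⊔ Subgroup.centralizer (D : Set G)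

variable [Fintype ↥(D ⊔ Subgroup.centralizer (D : Set G))]
  {b : Set (IrrCharacter ↥(D ⊔ Subgroup.centralizer (D : Set G)))}
  {Y : Subgroup G} [Fintype Y]

/-- Restriction to `D C(D)`. -/
def resL (hY : D ⊔ Subgroup.centralizer (D : Set G) ≤ Y) (ψ : Y → ℂ) :
    ↥(D ⊔ Subgroup.centralizer (D : Set G)) → ℂ :=
  fun n => ψ ⟨(n : G), hY n.2⟩

/-- The characters of `Y` over the blocks covered by `B`. -/
def OverY (hY : D ⊔ Subgroup.centralizer (D : Set G) ≤ Y)
    (c : Set (IrrCharacter ↥(D ⊔ Subgroup.centralizer (D : Set G)))) : Set (IrrCharacter Y) :=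
  {ψ | ∃ θ ∈ coverSet (D ⊔ Subgroup.centralizer (D : Set G)) c,
    Cfsg.classInner (resL hY (ψ : Y → ℂ))
      (θ : ↥(D ⊔ Subgroup.centralizer (D : Set G)) → ℂ) ≠ 0}

variable (hY : D ⊔ Subgroup.centralizer (D : Set G) ≤ Y)

theorem isCharacter_resL (ψ : IrrCharacter Y) :
    Cfsg.IsCharacter ↥LL (resL hY (ψ : Y → ℂ)) :=
  Characters.isCharacter_comp (Subgroup.inclusion hY) (Characters.isCharacter_of_isIrr ψ.2)

/-- The multiplicity of `θ` in the restriction of `ψ`. -/
noncomputable def multL (ψ : IrrCharacter Y)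
    (θ : IrrCharacter ↥(D ⊔ Subgroup.centralizer (D : Set G))) : ℕ :=
  (Characters.classInner_character_irr (isCharacter_resL hY ψ) θ.2).choose

theorem multL_spec (ψ : IrrCharacter Y) (θ : IrrCharacter ↥LL) :
    Cfsg.classInner (resL hY (ψ : Y → ℂ)) (θ : ↥LL → ℂ) = multL hY ψ θ :=
  (Characters.classInner_character_irr (isCharacter_resL hY ψ) θ.2).choose_spec

theorem resL_eq_sum (ψ : IrrCharacter Y) (n : ↥LL) :
    resL hY (ψ : Y → ℂ) n = ∑ θ, (multL hY ψ θ : ℂ) * (θ : ↥LL → ℂ) n := by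
  have h := congrFun (Characters.classFunction_expansion
    (Characters.isClassFunction_of_isCharacter (isCharacter_resL hY ψ))) n
  simp only [Finset.sum_apply, Pi.smul_apply, smul_eq_mul, multL_spec] at h
  exact h

theorem exists_multL (ψ : IrrCharacter Y) : ∃ θ, multL hY ψ θ ≠ 0 := by
  by_contra! hno
  refine Characters.irr_one_ne_zero ψ.2 ?_
  have h := resL_eq_sum hY ψ 1
  simp only [hno, Nat.cast_zero, zero_mul, Finset.sum_const_zero] at h
  exact h

theorem multL_conj (ψ : IrrCharacter Y) (θ : IrrCharacter ↥LL) {y : G} (hy : y ∈ Y) :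
    multL hY ψ (conjIrr LL θ y) = multL hY ψ θ := by
  apply Nat.cast_injective (R := ℂ)
  rw [← multL_spec, ← multL_spec, coe_conjIrr]
  have e : resL hY (ψ : Y → ℂ) = conjBy LL (resL hY (ψ : Y → ℂ)) y := funext fun n => by
    rw [conjBy_apply]
    exact (Characters.isClassFunction_of_isIrr ψ.2 ⟨(n : G), hY n.2⟩ ⟨y, hy⟩).symm
  conv_lhs => rw [e]
  exact classInner_conjBy LL _ _ y

/-- Every character of `Y` lies under one of `G`. -/
theorem exists_char_over (ψ : IrrCharacter Y) :
    ∃ χ : IrrCharacter G, Cfsg.classInner (fun y : Y => (χ : G → ℂ) y) (ψ : Y → ℂ) ≠ 0 := by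
  classical
  by_contra! hno
  have h : ∑ χ : IrrCharacter G,
      (χ : G → ℂ) 1 * Cfsg.classInner (fun y : Y => (χ : G → ℂ) y) (ψ : Y → ℂ) = 0 :=
    Finset.sum_eq_zero fun χ _ => by rw [hno χ, mul_zero]
  simp only [Cfsg.classInner, Finset.mul_sum] at h
  rw [Finset.sum_comm, Finset.sum_eq_single (1 : Y)] at h
  · rw [Finset.sum_congr rfl fun (χ : IrrCharacter G) _ => show
        (χ : G → ℂ) 1 * ((Nat.card Y : ℂ)⁻¹ * ((χ : G → ℂ) ((1 : Y) : G) *
          conj ((ψ : Y → ℂ) 1))) = ((Nat.card Y : ℂ)⁻¹ * conj ((ψ : Y → ℂ) 1)) *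
            ((χ : G → ℂ) 1 * (χ : G → ℂ) ((1 : Y) : G)) by ring, ← Finset.mul_sum,
      Characters.sum_degree_mul, if_pos (OneMemClass.coe_one Y)] at h
    simp [Characters.irr_one_ne_zero ψ.2] at h
  · intro y _ hy
    rw [Finset.sum_congr rfl fun (χ : IrrCharacter G) _ => show
        (χ : G → ℂ) 1 * ((Nat.card Y : ℂ)⁻¹ * ((χ : G → ℂ) (y : G) *
          conj ((ψ : Y → ℂ) y))) = ((Nat.card Y : ℂ)⁻¹ * conj ((ψ : Y → ℂ) y)) *
            ((χ : G → ℂ) 1 * (χ : G → ℂ) (y : G)) by ring, ← Finset.mul_sum,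
      Characters.sum_degree_mul, if_neg (fun e : (y : G) = 1 => hy (Subtype.ext e)), mul_zero]
  · simp

/-- The multiplicity in a restriction from `G`. -/
theorem exists_multY (χ : IrrCharacter G) (φ : IrrCharacter Y) :
    ∃ m : ℕ, Cfsg.classInner (fun y : Y => (χ : G → ℂ) y) (φ : Y → ℂ) = m :=
  Characters.classInner_character_irr
    (Characters.isCharacter_restrict Y (Characters.isCharacter_of_isIrr χ.2)) φ.2

theorem covers_of_constituent {χ : IrrCharacter G} {ψ : IrrCharacter Y}
    (hψ : Cfsg.classInner (fun y : Y => (χ : G → ℂ) y) (ψ : Y → ℂ) ≠ 0)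
    {θ : IrrCharacter ↥LL} (hθ : multL hY ψ θ ≠ 0) :
    Cfsg.classInner (fun n : ↥LL => (χ : G → ℂ) n) (θ : ↥LL → ℂ) ≠ 0 := by
  classical
  choose m hm using fun φ => exists_multY (Y := Y) χ φ
  have e : (fun n : ↥LL => (χ : G → ℂ) n) =
      ∑ φ : IrrCharacter Y, (m φ : ℂ) • resL hY (φ : Y → ℂ) := by
    funext n
    have h := congrFun (Characters.classFunction_expansion
      (Characters.isClassFunction_of_isCharacter (Characters.isCharacter_restrict Y
        (Characters.isCharacter_of_isIrr χ.2)))) ⟨(n : G), hY n.2⟩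
    simp only [Finset.sum_apply, Pi.smul_apply, smul_eq_mul, hm] at h ⊢
    exact h
  rw [e, Characters.classInner_sum_left]
  simp only [Characters.classInner_smul_left, multL_spec, ← Nat.cast_mul, ← Nat.cast_sum]
  rw [Nat.cast_ne_zero]
  intro h0
  have := Finset.sum_eq_zero_iff.1 h0 ψ (Finset.mem_univ _)
  refine (Nat.mul_ne_zero ?_ hθ) this
  intro hz
  rw [hm, hz, Nat.cast_zero] at hψ
  exact hψ rfl

section WithSetting

variable (h : Setting p M B D b)
include h

theorem mem_overY_iff {χ : IrrCharacter G} {ψ : IrrCharacter Y}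
    (hψ : Cfsg.classInner (fun y : Y => (χ : G → ℂ) y) (ψ : Y → ℂ) ≠ 0) :
    ψ ∈ OverY hY b ↔ χ ∈ B := by
  constructor
  · rintro ⟨θ, hθ, hne⟩
    rw [multL_spec, Nat.cast_ne_zero] at hne
    exact h.mem_of_covers hθ (covers_of_constituent hY hψ hne)
  · intro hχ
    obtain ⟨θ, hθ⟩ := exists_multL hY ψ
    exact ⟨θ, h.constituent_mem hχ (covers_of_constituent hY hψ hθ),
      by rw [multL_spec]; exact Nat.cast_ne_zero.2 hθ⟩

theorem constituent_overY {ψ : IrrCharacter Y} (hψ : ψ ∈ OverY hY b) {θ : IrrCharacter ↥LL}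
    (hθ : multL hY ψ θ ≠ 0) : θ ∈ coverSet LL b := by
  obtain ⟨χ, hχ⟩ := exists_char_over ψ
  exact h.constituent_mem ((mem_overY_iff hY h hχ).1 hψ) (covers_of_constituent hY hχ hθ)

theorem isBlockUnion_overY : IsBlockUnion M (OverY hY b) := by
  classical
  set A := coverSet LL b with hA
  let F : Y → ℂ := fun y => if hy : (y : G) ∈ LL then Cfsg.blockCoeff A ⟨y, hy⟩ else 0
  let W : Ctr ℂ Y := ⟨ofFun F, mem_ctr_iff.2 fun g t => by
    simp only [coeff_ofFun, F, Subgroup.coe_mul, Subgroup.coe_inv]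
    by_cases hg : (g : G) ∈ LL
    · rw [dif_pos hg, dif_pos ((inferInstance : (LL).Normal).conj_mem _ hg _),
        ← blockCoeff_coverSet_conj LL b (t : G) ⟨g, hg⟩]
      rfl
    · rw [dif_neg hg, dif_neg fun hc => hg (by
        simpa [mul_assoc] using (inferInstance : (LL).Normal).conj_mem _ hc (t : G)⁻¹)]⟩
  have hsum : ∀ ψ : IrrCharacter Y, ∑ y : Y, F y * (ψ : Y → ℂ) y =
      ∑ θ : IrrCharacter ↥LL,
        if θ ∈ A then (θ : ↥LL → ℂ) 1 * (multL hY ψ θ : ℂ) else 0 := by
    intro ψ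
    have e : ∑ y : Y, F y * (ψ : Y → ℂ) y =
        ∑ n : ↥LL, Cfsg.blockCoeff A n * resL hY (ψ : Y → ℂ) n := by
      refine (Fintype.sum_of_injective (fun n : ↥LL => (⟨(n : G), hY n.2⟩ : Y))
        (fun a c hac => Subtype.ext (congrArg (fun x : Y => (x : G)) hac)) _ _
        (fun y hy => ?_) fun n => ?_).symm
      · simp only [F]
        rw [dif_neg fun hyN => hy ⟨⟨y, hyN⟩, rfl⟩, zero_mul]
      · simp only [F, dif_pos n.2, resL]
    rw [e]
    simp only [← multL_spec hY, Cfsg.classInner, blockCoeff_eq_sum, Finset.mul_sum, Finset.sum_mul]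
    rw [Finset.sum_comm]
    refine Finset.sum_congr rfl fun θ _ => ?_
    split_ifs
    · exact Finset.sum_congr rfl fun n _ => by ring
    · simp
  have e : setIdemC (OverY hY b) = W := by
    refine ctr_ext_omega fun ψ => ?_
    rw [omega_setIdemC, omega_apply]
    simp only [W, coeff_ofFun]
    rw [hsum ψ]
    by_cases hψ : ψ ∈ OverY hY b
    · rw [if_pos hψ, eq_div_iff (Characters.irr_one_ne_zero ψ.2), one_mul]
      refine Eq.trans (resL_eq_sum hY ψ 1) (Finset.sum_congr rfl fun θ _ => ?_)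
      by_cases hm : multL hY ψ θ = 0
      · simp [hm]
      · rw [if_pos (constituent_overY hY h hψ hm), mul_comm]
    · rw [if_neg hψ, Finset.sum_eq_zero fun θ _ => ?_, zero_div]
      split_ifs with hθ
      · by_contra hne
        exact hψ ⟨θ, hθ, by rw [multL_spec]; exact (mul_ne_zero_iff.1 hne).2⟩
      · rfl
  refine isBlockUnion_of_memLocalRing fun t => ?_
  have ht := congrArg (fun z : Ctr ℂ Y => (z : MonoidAlgebra ℂ Y).coeff t) e
  simp only [coeff_setIdemC, W, coeff_ofFun] at ht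
  rw [ht]
  simp only [F]
  split_ifs
  · exact memLocalRing_blockCoeff (isBlockUnion_coverSet LL h.hind.1) _
  · exact Subring.zero_mem (localRing M)

include hY in
theorem le_Y : D ≤ Y := le_sup_left.trans hY

theorem isP_subgroupOf : IsPGroup p (D.subgroupOf Y) := h.isP.comap_subtype

include hY in
theorem card_subgroupOf : Nat.card (D.subgroupOf Y) = Nat.card D :=
  Nat.card_congr (Subgroup.subgroupOfEquivOfLe (le_Y hY h)).toEquiv

theorem mem_Om_of_good {η : IrrCharacter Y} (hη : Good (OverY hY b) (D.subgroupOf Y) η)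
    {θ : IrrCharacter ↥LL} (hθ : multL hY η θ ≠ 0) : θ ∈ Om D b := by
  refine ⟨constituent_overY hY h hη.1 hθ, fun x hx => ?_⟩
  refine Broline73.apply_eq_one_of_constituent (isCharacter_resL hY η) θ
    (by rw [multL_spec]; exact Nat.cast_ne_zero.2 hθ) ?_
  simp only [resL]
  rw [hη.2 ⟨(x : G), hY x.2⟩ (Subgroup.mem_subgroupOf.2 hx)]
  rfl

theorem good_DZ {η : IrrCharacter Y} (hη : Good (OverY hY b) (D.subgroupOf Y) η) :
    DZ p (D.subgroupOf Y) η := by
  classical
  refine ⟨hη.2, ?_⟩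
  haveI := Fintype.ofFinite (Y ⧸ D.subgroupOf Y)
  refine le_antisymm ?_ ?_
  · obtain ⟨ψ, hψ, hψv⟩ := Characters.exists_irr_quotient (D.subgroupOf Y) η.2 hη.2
    have hd : Cfsg.charDegree (η : Y → ℂ) = Cfsg.charDegree ψ := by
      simp only [Cfsg.charDegree, hψv, QuotientGroup.mk_one]
    rw [hd, Subgroup.index_eq_card]
    exact charDegree_factorization_le (⟨ψ, hψ⟩ : IrrCharacter (Y ⧸ D.subgroupOf Y))
  · obtain ⟨θ₀, -, hθ₀, hv, -⟩ := h.exists_theta0
    have hdeg : Cfsg.charDegree (η : Y → ℂ) = Cfsg.charDegree (θ₀ : ↥LL → ℂ) *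
        ∑ θ : IrrCharacter ↥LL, if θ ∈ Om D b then multL hY η θ else 0 := by
      apply Nat.cast_injective (R := ℂ)
      push_cast
      rw [charDegree_cast η, Finset.mul_sum]
      refine Eq.trans (resL_eq_sum hY η 1) (Finset.sum_congr rfl fun θ _ => ?_)
      by_cases hm : multL hY η θ = 0
      · simp [hm]
      · have hθ := mem_Om_of_good hY h hη hm
        rw [if_pos hθ, ← h.charDegree_eq hθ hθ₀, charDegree_cast, mul_comm]
    have hdvd := h.dvd_sum hY (multL hY η) fun θ y hy => multL_conj hY η θ hy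
    have hsum0 : (∑ θ : IrrCharacter ↥LL, if θ ∈ Om D b then multL hY η θ else 0) ≠ 0 := fun h0 =>
      charDegree_ne_zero η (by rw [hdeg, h0, mul_zero])
    have h2 : ((LL).relIndex Y).factorization p ≤
        (∑ θ : IrrCharacter ↥LL, if θ ∈ Om D b then multL hY η θ else 0).factorization p :=
      ((Fact.out : p.Prime).pow_dvd_iff_le_factorization hsum0).1 hdvd
    have e0 : (D.subgroupOf Y).index = (D.subgroupOf LL).index * ((LL).subgroupOf Y).index :=
      (Subgroup.relIndex_mul_relIndex D LL Y le_sup_left hY).symm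
    rw [hdeg, Nat.factorization_mul (charDegree_ne_zero θ₀) hsum0, Finsupp.add_apply, hv, e0,
      Nat.factorization_mul Subgroup.index_ne_zero_of_finite Subgroup.index_ne_zero_of_finite,
      Finsupp.add_apply]
    exact Nat.add_le_add_left h2 _

section Central

variable {u : G} (huY : Subgroup.centralizer ({u} : Set G) = Y) (huD : u ∈ D)
include huY

omit h in
theorem commute_Y (y : Y) : Commute u (y : G) := by
  have hy : (y : G) ∈ Subgroup.centralizer ({u} : Set G) := huY.symm ▸ y.2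
  exact (Subgroup.mem_centralizer_singleton_iff.1 hy).symm

omit h in
theorem isClassFunction_section (χ : IrrCharacter G) :
    Cfsg.IsClassFunction Y (fun y : Y => (χ : G → ℂ) (u * y)) := fun g t => by
  show (χ : G → ℂ) (u * (t * g * t⁻¹ : Y)) = _
  rw [show u * ((t * g * t⁻¹ : Y) : G) = (t : G) * (u * g) * (t : G)⁻¹ by
    simp only [Subgroup.coe_mul, Subgroup.coe_inv, ← mul_assoc]
    rw [(commute_Y huY t).eq]]
  exact Characters.isClassFunction_of_isIrr χ.2 _ _

include huD

omit h in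
theorem classInner_section (hu : u ∈ Y) (χ : IrrCharacter G) (ψ : IrrCharacter Y)
    (h0 : Cfsg.classInner (fun y : Y => (χ : G → ℂ) y) (ψ : Y → ℂ) = 0) :
    Cfsg.classInner (fun y : Y => (χ : G → ℂ) (u * y)) (ψ : Y → ℂ) = 0 := by
  classical
  have hz : (⟨u, hu⟩ : Y) ∈ Subgroup.center Y :=
    Subgroup.mem_center_iff.2 fun y => Subtype.ext (commute_Y huY y).eq.symm
  have e : (fun y : Y => (χ : G → ℂ) (u * y)) = ∑ φ : IrrCharacter Y,
      (Cfsg.classInner (fun y : Y => (χ : G → ℂ) y) (φ : Y → ℂ) *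
        ((φ : Y → ℂ) ⟨u, hu⟩ / (φ : Y → ℂ) 1)) • (φ : Y → ℂ) := by
    funext y
    have h1 := congrFun (Characters.classFunction_expansion
      (Characters.isClassFunction_of_isCharacter (Characters.isCharacter_restrict Y
        (Characters.isCharacter_of_isIrr χ.2)))) (⟨u, hu⟩ * y)
    simp only [Finset.sum_apply, Pi.smul_apply, smul_eq_mul] at h1 ⊢
    refine h1.trans (Finset.sum_congr rfl fun φ _ => ?_)
    rw [mul_assoc, div_mul_eq_mul_div]
    congr 1
    rw [eq_div_iff (Characters.irr_one_ne_zero φ.2)]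
    exact BlocksCharsC.irr_central_mul φ.2 hz y
  rw [e, Characters.classInner_irr_coeff, h0, zero_mul]

omit h in
theorem card_conjugators (hDp : IsPGroup p D) {s s' : Y} (hs : ¬ p ∣ orderOf s)
    (hs' : ¬ p ∣ orderOf s') :
    Nat.card {c : G // c * (u * s) * c⁻¹ = u * s'} =
      Nat.card {c : Y // c * s * c⁻¹ = s'} := by
  have hu := orderOf_pow_of_mem hDp huD
  have hp1 : ∀ t : Y, ¬ p ∣ orderOf t → pPart p (u * (t : G)) = u := fun t ht =>
    (pPart_rp_of_eq hu (by rwa [Subgroup.orderOf_coe]) (commute_Y huY t)).1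
  refine Nat.card_congr
    { toFun := fun c => ⟨⟨c.1, ?_⟩, Subtype.ext ?_⟩
      invFun := fun c => ⟨c.1, ?_⟩
      left_inv := fun c => rfl
      right_inv := fun c => rfl }
  · subst huY
    refine Subgroup.mem_centralizer_singleton_iff.2 ?_
    have h1 := pPart_conj (p := p) c.1 (u * (s : G))
    rw [c.2, hp1 s' hs', hp1 s hs] at h1
    exact (mul_inv_eq_iff_eq_mul.1 h1.symm)
  · have h1 := pPart_conj (p := p) c.1 (u * (s : G))
    rw [c.2, hp1 s' hs', hp1 s hs] at h1
    have h2 : c.1 * (u * s) * c.1⁻¹ = (c.1 * u * c.1⁻¹) * (c.1 * s * c.1⁻¹) := by group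
    rw [c.2, ← h1] at h2
    exact (mul_left_cancel h2).symm
  · have h1 : (c.1 : G) * s * (c.1 : G)⁻¹ = s' := congrArg Subtype.val c.2
    have h2 : (c.1 : G) * u * (c.1 : G)⁻¹ = u :=
      mul_inv_eq_iff_eq_mul.2 (commute_Y huY c.1).eq.symm
    calc (c.1 : G) * (u * s) * (c.1 : G)⁻¹
        = ((c.1 : G) * u * (c.1 : G)⁻¹) * ((c.1 : G) * s * (c.1 : G)⁻¹) := by group
      _ = u * s' := by rw [h1, h2]

omit h in
/-- The column relations of the section. -/
theorem section_orth (hDp : IsPGroup p D) (s s' : Y) (hs : ¬ p ∣ orderOf s)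
    (hs' : ¬ p ∣ orderOf s') :
    ∑ χ : IrrCharacter G, (χ : G → ℂ) (u * s) * conj ((χ : G → ℂ) (u * s')) =
      (Nat.card {c : Y // c * s * c⁻¹ = s'} : ℂ) := by
  rw [Characters.sum_irr_mul_conj, card_conjugators huY huD hDp hs hs']

variable (hS : ∀ x y : G, Cfsg.MemLocalRing M ((Nat.card D : ℂ)⁻¹ *
  ∑ χ : IrrCharacter G,
    (open Classical in if χ ∈ B then (χ : G → ℂ) x * conj ((χ : G → ℂ) y) else 0)))

theorem dcoef_eq_zero_of_notMem {χ : IrrCharacter G} (hχ : χ ∉ B) {η : IrrCharacter Y}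
    (hη : Good (OverY hY b) (D.subgroupOf Y) η) :
    dcoef p (fun y : Y => (χ : G → ℂ) (u * y)) η = 0 :=
  dcoef_eq_zero_of_orthogonal (isP_subgroupOf h) h.hM (isBlockUnion_overY hY h)
    (fun _ hg => good_DZ hY h hg) (isClassFunction_section huY χ) (fun ψ hψ =>
      classInner_section huY huD (le_Y hY h huD) χ ψ
        (by_contra fun hne => hχ ((mem_overY_iff hY h hne).1 hψ))) hη

open Classical in
theorem section_eq {χ : IrrCharacter G} (hχ : χ ∈ B) {s : Y} (hs : ¬ p ∣ orderOf s) :
    (χ : G → ℂ) (u * s) = ∑ η, if Good (OverY hY b) (D.subgroupOf Y) η then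
      dcoef p (fun y : Y => (χ : G → ℂ) (u * y)) η * (η : Y → ℂ) s else 0 :=
  eq_sum_good (f := fun y : Y => (χ : G → ℂ) (u * y)) (isP_subgroupOf h) h.hM
    (isBlockUnion_overY hY h) (isClassFunction_section huY χ) (fun ψ hψ =>
      classInner_section huY huD (le_Y hY h huD) χ ψ
        (by_contra fun hne => hψ ((mem_overY_iff hY h hne).2 hχ))) hs

include hS

open Classical in
theorem section_contribution {η : IrrCharacter Y} (hη : Good (OverY hY b) (D.subgroupOf Y) η) :
    (∑ χ : IrrCharacter G, if χ ∈ B then dcoef p (fun y : Y => (χ : G → ℂ) (u * y)) η *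
        conj (dcoef p (fun y : Y => (χ : G → ℂ) (u * y)) η) else 0) = (Nat.card D : ℂ) ∧
      ∀ y : Y, (y : G) ∉ LL → (η : Y → ℂ) y = 0 := by
  have hab : ∀ a ∈ D.subgroupOf Y, ∀ c ∈ D.subgroupOf Y, a * c = c * a := fun a ha c hc =>
    Subtype.ext (h.ab _ (Subgroup.mem_subgroupOf.1 ha) _ (Subgroup.mem_subgroupOf.1 hc))
  obtain ⟨h1, h2⟩ := contribution_eq (isP_subgroupOf h) hab h.hM (good_DZ hY h hη)
    (fun (χ : IrrCharacter G) (y : Y) => (χ : G → ℂ) (u * y)) (isClassFunction_section huY)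
    (section_orth huY huD h.isP) B
    (fun χ hχ => dcoef_eq_zero_of_notMem hY h huY huD hχ hη)
    (fun x y => by rw [card_subgroupOf hY h]; exact hS _ _)
  rw [card_subgroupOf hY h] at h1
  refine ⟨h1 ▸ Finset.sum_congr rfl fun χ _ => ?_, fun y hy => h2 y fun hc => hy ?_⟩
  · split_ifs with hχ
    · rfl
    · rw [dcoef_eq_zero_of_notMem hY h huY huD hχ hη, zero_mul]
  · refine Subgroup.mem_sup_right (Subgroup.mem_centralizer_iff.2 fun d hd => ?_)
    exact congrArg Subtype.val (Subgroup.mem_centralizer_iff.1 hc ⟨d, le_Y hY h hd⟩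
      (Subgroup.mem_subgroupOf.2 hd))

theorem good_disjoint {η η' : IrrCharacter Y} (hη : Good (OverY hY b) (D.subgroupOf Y) η)
    (hη' : Good (OverY hY b) (D.subgroupOf Y) η') (hne : η ≠ η') (θ : IrrCharacter ↥LL) :
    multL hY η θ = 0 ∨ multL hY η' θ = 0 := by
  classical
  have hz : Cfsg.classInner (resL hY (η : Y → ℂ)) (resL hY (η' : Y → ℂ)) = 0 := by
    rw [Cfsg.classInner]
    refine mul_eq_zero_of_right _ ?_
    have e : ∑ n : ↥LL, resL hY (η : Y → ℂ) n * conj (resL hY (η' : Y → ℂ) n) =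
        ∑ y : Y, (η : Y → ℂ) y * conj ((η' : Y → ℂ) y) := by
      refine Fintype.sum_of_injective (fun n : ↥LL => (⟨(n : G), hY n.2⟩ : Y))
        (fun a c hac => Subtype.ext (congrArg (fun x : Y => (x : G)) hac)) _ _
        (fun y hy => ?_) fun n => rfl
      rw [(section_contribution hY h huY huD hS hη).2 y fun hyN => hy ⟨⟨y, hyN⟩, rfl⟩, zero_mul]
    have h1 := Characters.classInner_irr η η'
    rw [if_neg hne, Cfsg.classInner, mul_eq_zero] at h1
    rw [e]
    exact h1.resolve_left (inv_ne_zero Characters.natCard_ne_zero)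
  rw [Characters.classInner_eq_sum
    (Characters.isClassFunction_of_isCharacter (isCharacter_resL hY η))] at hz
  simp only [multL_spec, Complex.conj_natCast, ← Nat.cast_mul, ← Nat.cast_sum] at hz
  exact mul_eq_zero.1 (Finset.sum_eq_zero_iff.1 (Nat.cast_eq_zero.1 hz) θ (Finset.mem_univ _))

open Classical in
theorem good_orth {η η' : IrrCharacter Y} (hη : Good (OverY hY b) (D.subgroupOf Y) η)
    (hη' : Good (OverY hY b) (D.subgroupOf Y) η') :
    (Nat.card D : ℂ) * ∑ s : Y, (if p ∣ orderOf s then 0 else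
      (η : Y → ℂ) s * conj ((η' : Y → ℂ) s)) = if η = η' then (Nat.card Y : ℂ) else 0 := by
  have h1 := DZ.orthonormal (isP_subgroupOf h) h.hM (good_DZ hY h hη) (good_DZ hY h hη')
  rw [inv_mul_eq_iff_eq_mul₀ Characters.natCard_ne_zero, mul_ite, mul_one, mul_zero] at h1
  rw [← h1, Finset.mul_sum]
  refine Finset.sum_congr rfl fun s _ => ?_
  split_ifs
  · rw [mul_zero]
  · rcases eq_or_ne ((η : Y → ℂ) s) 0 with h0 | h0
    · rw [h0, zero_mul, mul_zero, mul_zero]
    · have hs : (s : G) ∈ LL := by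
        by_contra hs
        exact h0 ((section_contribution hY h huY huD hS hη).2 s hs)
      rw [(cfix_eq_iff s).2 (Subgroup.mem_centralizer_iff.2 fun d hd => Subtype.ext
        (Subgroup.mem_centralizer_iff.1 (h.le_centralizer hs) (d : G)
          (Subgroup.mem_subgroupOf.1 hd))), card_subgroupOf hY h]

open Classical in
theorem section_sum :
    ∑ s : Y, (if p ∣ orderOf s then 0 else ∑ χ : IrrCharacter G,
      if χ ∈ B then (χ : G → ℂ) (u * s) * conj ((χ : G → ℂ) (u * s)) else 0) =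
      (((Finset.univ.filter (Good (OverY hY b) (D.subgroupOf Y))).card * Nat.card Y : ℕ) : ℂ) := by
  set GY := Finset.univ.filter (Good (OverY hY b) (D.subgroupOf Y)) with hGY
  set d : IrrCharacter G → IrrCharacter Y → ℂ :=
    fun χ η => dcoef p (fun y : Y => (χ : G → ℂ) (u * y)) η with hd
  have hD0 : (Nat.card D : ℂ) ≠ 0 := Nat.cast_ne_zero.2 Nat.card_pos.ne'
  refine mul_left_cancel₀ hD0 ?_
  calc (Nat.card D : ℂ) * ∑ s : Y, (if p ∣ orderOf s then 0 else ∑ χ : IrrCharacter G,
        if χ ∈ B then (χ : G → ℂ) (u * s) * conj ((χ : G → ℂ) (u * s)) else 0)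
      = ∑ η ∈ GY, ∑ η' ∈ GY, (∑ χ : IrrCharacter G,
          if χ ∈ B then d χ η * conj (d χ η') else 0) *
          ((Nat.card D : ℂ) * ∑ s : Y, if p ∣ orderOf s then 0 else
            (η : Y → ℂ) s * conj ((η' : Y → ℂ) s)) := by
        rw [Finset.mul_sum]
        simp only [Finset.mul_sum (s := (Finset.univ : Finset Y))]
        rw [Finset.sum_congr rfl (g := fun η => ∑ η' ∈ GY, ∑ s : Y, _)
          (fun η _ => rfl), ]
        rw [Finset.sum_congr rfl fun η (_ : η ∈ GY) => Finset.sum_comm, Finset.sum_comm]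
        refine Finset.sum_congr rfl fun s _ => ?_
        split_ifs with hs
        · simp
        simp only [Finset.sum_mul]
        rw [Finset.mul_sum, Finset.sum_congr rfl fun η (_ : η ∈ GY) => Finset.sum_comm,
          Finset.sum_comm]
        refine Finset.sum_congr rfl fun χ _ => ?_
        split_ifs with hχ
        · rw [section_eq hY h huY huD hχ hs, ← Finset.sum_filter, map_sum, Finset.sum_mul,
            Finset.mul_sum]
          refine Finset.sum_congr rfl fun η _ => ?_
          rw [Finset.mul_sum, Finset.mul_sum]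
          refine Finset.sum_congr rfl fun η' _ => ?_
          simp only [hd, map_mul]
          ring
        · simp
    _ = ∑ η ∈ GY, (Nat.card D : ℂ) * (Nat.card Y : ℂ) := by
        refine Finset.sum_congr rfl fun η hη => ?_
        rw [Finset.sum_congr rfl fun η' hη' => by
          rw [good_orth hY h huY huD hS (Finset.mem_filter.1 hη).2 (Finset.mem_filter.1 hη').2],
          Finset.sum_eq_single η (fun η' _ hne => by rw [if_neg hne.symm, mul_zero])
            (fun hn => absurd hη hn), if_pos rfl,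
          (section_contribution hY h huY huD hS (Finset.mem_filter.1 hη).2).1]
    _ = _ := by
        rw [Finset.sum_const, nsmul_eq_mul]
        push_cast
        ring

open Classical in
theorem good_card_le :
    (Finset.univ.filter (Good (OverY hY b) (D.subgroupOf Y))).card * Nat.card Y ≤
      ∑ θ : IrrCharacter ↥LL, if θ ∈ Om D b then
        (Finset.univ.filter fun g : G => g ∈ Y ∧ conjIrr LL θ g = θ).card else 0 := by
  set GY := Finset.univ.filter (Good (OverY hY b) (D.subgroupOf Y)) with hGY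
  set F : IrrCharacter ↥LL → Finset G :=
    fun θ => Finset.univ.filter fun g : G => g ∈ Y ∧ conjIrr LL θ g = θ with hF
  set supp : IrrCharacter Y → Finset (IrrCharacter ↥LL) :=
    fun η => Finset.univ.filter fun θ => multL hY η θ ≠ 0 with hsupp
  have hone : ∀ η ∈ GY, Nat.card Y ≤ ∑ θ ∈ supp η, (F θ).card := by
    intro η _
    obtain ⟨ω, hω⟩ := exists_multL hY η
    have hmem : ∀ y : Y, conjIrr LL ω (y : G) ∈ supp η := fun y =>
      Finset.mem_filter.2 ⟨Finset.mem_univ _, by rw [multL_conj hY η ω y.2]; exact hω⟩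
    have hex : ∀ θ, ∃ t : G, (∃ y : Y, conjIrr LL ω (y : G) = θ) →
        t ∈ Y ∧ conjIrr LL ω t = θ := by
      intro θ
      by_cases hθ : ∃ y : Y, conjIrr LL ω (y : G) = θ
      · obtain ⟨y, hy⟩ := hθ
        exact ⟨y, fun _ => ⟨y.2, hy⟩⟩
      · exact ⟨1, fun h' => absurd h' hθ⟩
    choose t ht using hex
    rw [← Finset.card_sigma, Nat.card_eq_fintype_card, ← Finset.card_univ]
    refine Finset.card_le_card_of_injOn
      (fun y => ⟨conjIrr LL ω (y : G), (t (conjIrr LL ω (y : G)))⁻¹ * (y : G)⟩) ?_ ?_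
    · intro y _
      obtain ⟨htY, hte⟩ := ht _ ⟨y, rfl⟩
      simp only [Finset.mem_coe, Finset.mem_sigma]
      refine ⟨hmem y, Finset.mem_filter.2 ⟨Finset.mem_univ _, Y.mul_mem (Y.inv_mem htY) y.2, ?_⟩⟩
      refine Eq.trans (congrArg (fun z => conjIrr LL z _) hte.symm) ?_
      show conjIrr LL (conjIrr LL ω _) _ = _
      rw [conjIrr_mul, mul_inv_cancel_left]
    · intro y _ y' _ e
      simp only [Sigma.mk.injEq] at e
      have e2 := eq_of_heq e.2
      rw [e.1] at e2
      exact Subtype.ext (mul_left_cancel e2)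
  calc GY.card * Nat.card Y = ∑ η ∈ GY, Nat.card Y := by rw [Finset.sum_const, smul_eq_mul]
    _ ≤ ∑ η ∈ GY, ∑ θ ∈ supp η, (F θ).card := Finset.sum_le_sum hone
    _ = ∑ θ ∈ GY.biUnion supp, (F θ).card := (Finset.sum_biUnion fun η hη η' hη' hne => by
        rw [Function.onFun, Finset.disjoint_left]
        intro θ h1 h2
        rcases good_disjoint hY h huY huD hS (Finset.mem_filter.1 hη).2
          (Finset.mem_filter.1 hη').2 hne θ with h3 | h3
        · exact (Finset.mem_filter.1 h1).2 h3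
        · exact (Finset.mem_filter.1 h2).2 h3).symm
    _ ≤ ∑ θ ∈ Finset.univ.filter (fun θ => θ ∈ Om D b), (F θ).card :=
        Finset.sum_le_sum_of_subset fun θ hθ => by
          obtain ⟨η, hη, hm⟩ := Finset.mem_biUnion.1 hθ
          exact Finset.mem_filter.2 ⟨Finset.mem_univ _,
            mem_Om_of_good hY h (Finset.mem_filter.1 hη).2 (Finset.mem_filter.1 hm).2⟩
    _ = _ := Finset.sum_filter _ _

end Central

end WithSetting

omit [Fintype Y] in
open Classical in
/-- The sum over the section of `u` is bounded by the fixed points of `C(u)` on `Om`. -/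
theorem Setting.section_bound (h : Setting p M B D b)
    (hS : ∀ x y : G, Cfsg.MemLocalRing M ((Nat.card D : ℂ)⁻¹ *
      ∑ χ : IrrCharacter G, if χ ∈ B then (χ : G → ℂ) x * conj ((χ : G → ℂ) y) else 0))
    {u : G} (huD : u ∈ D) :
    ∃ N : ℕ, ∑ s : G, (if ¬ p ∣ orderOf s ∧ Commute u s then ∑ χ : IrrCharacter G,
        (if χ ∈ B then (χ : G → ℂ) (u * s) * conj ((χ : G → ℂ) (u * s)) else 0) else 0) = N ∧
      N ≤ ∑ θ : IrrCharacter ↥LL, if θ ∈ Om D b then
        (Finset.univ.filter fun g : G => Commute u g ∧ conjIrr LL θ g = θ).card else 0 := by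
  haveI := Fintype.ofFinite (Subgroup.centralizer ({u} : Set G))
  have hYL : LL ≤ Subgroup.centralizer ({u} : Set G) := fun x hx =>
    Subgroup.mem_centralizer_singleton_iff.2
      (Subgroup.mem_centralizer_iff.1 (h.le_centralizer hx) u huD).symm
  have hiff : ∀ g : G, g ∈ Subgroup.centralizer ({u} : Set G) ↔ Commute u g := fun g =>
    Subgroup.mem_centralizer_singleton_iff.trans ⟨fun e => e.symm, fun e => e.eq.symm⟩
  refine ⟨_, ?_, (good_card_le hYL h rfl huD hS).trans_eq ?_⟩
  · rw [← section_sum hYL h rfl huD hS]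
    rw [Finset.sum_congr rfl (g := fun s : G => if s ∈ Subgroup.centralizer ({u} : Set G) then
      (if p ∣ orderOf s then 0 else ∑ χ : IrrCharacter G,
        if χ ∈ B then (χ : G → ℂ) (u * s) * conj ((χ : G → ℂ) (u * s)) else 0) else 0)
      fun s _ => by
        simp only [hiff]
        by_cases h1 : Commute u s <;> by_cases h2 : p ∣ orderOf s <;> simp [h1, h2],
      ← Finset.sum_filter]
    rw [Finset.sum_subtype (p := fun s => s ∈ Subgroup.centralizer ({u} : Set G)) _
      fun s => by simp]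
    exact Finset.sum_congr rfl fun s _ => by rw [Subgroup.orderOf_coe]
  · simp only [hiff]

end CfsgLib.EqualDegree
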