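import Cfsg.Agent.EqualDegree.Project
import Cfsg.Agent.BlocksLocal.Reynolds
import Cfsg.Agent.BlockDegrees.FongReynolds
import Cfsg.Agent.Broline73.Basic

/-!
# The characters of `C(D)` trivial on an abelian normal defect group `D`

`Setting` collects a block `B` with abelian normal defect group `D` and a block `b` of `D C(D)`
inducing it.  `Om` is the set of characters trivial on `D` of the blocks of `D C(D)` covered by
`B`: one conjugacy class, on which every p-subgroup acts with the fixers inside `D C(D)`.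
-/

set_option autoImplicit false
set_option linter.style.haveILetI false
set_option linter.unusedSectionVars false

namespace CfsgLib.EqualDegree

open Cfsg CfsgLib.Blocks CfsgLib.BlocksLocal CfsgLib.OddOrderChar CfsgLib.CharactersDeep.Clifford
open scoped ComplexConjugate

universe u

variable {G : Type u} [Group G] [Fintype G] {p : ℕ} [Fact p.Prime] {M : Ideal AlgInt} [M.IsPrime]
  {B : Set (IrrCharacter G)} {D : Subgroup G} [D.Normal]

local notation "LL" => D ⊔ Subgroup.centralizer (D : Set G)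

variable [Fintype ↥(D ⊔ Subgroup.centralizer (D : Set G))]
  {b : Set (IrrCharacter ↥(D ⊔ Subgroup.centralizer (D : Set G)))}

/-- A block with abelian normal defect group and a block of `D C(D)` below it. -/
structure Setting (p : ℕ) [Fact p.Prime] (M : Ideal AlgInt) [M.IsPrime] (B : Set (IrrCharacter G))
    (D : Subgroup G) [D.Normal] [Fintype ↥(D ⊔ Subgroup.centralizer (D : Set G))]
    (b : Set (IrrCharacter ↥(D ⊔ Subgroup.centralizer (D : Set G)))) : Prop where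
  hM : Cfsg.IsPModular p M
  hB : Cfsg.IsPBlock M B
  hD : Cfsg.IsDefectGroup p M B D
  ab : ∀ a ∈ D, ∀ c ∈ D, a * c = c * a
  hb : Cfsg.IsDefectGroup p M b (D.subgroupOf (D ⊔ Subgroup.centralizer (D : Set G)))
  hind : Cfsg.IsInducedBlock M (D ⊔ Subgroup.centralizer (D : Set G)) b B

/-- The characters over `c` trivial on `E`. -/
def Om (E : Subgroup G) [E.Normal] [Fintype ↥(E ⊔ Subgroup.centralizer (E : Set G))]
    (c : Set (IrrCharacter ↥(E ⊔ Subgroup.centralizer (E : Set G)))) :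
    Set (IrrCharacter ↥(E ⊔ Subgroup.centralizer (E : Set G))) :=
  {θ | θ ∈ coverSet (E ⊔ Subgroup.centralizer (E : Set G)) c ∧
    ∀ x : ↥(E ⊔ Subgroup.centralizer (E : Set G)), (x : G) ∈ E →
      (θ : ↥(E ⊔ Subgroup.centralizer (E : Set G)) → ℂ) x =
        (θ : ↥(E ⊔ Subgroup.centralizer (E : Set G)) → ℂ) 1}

theorem conjIrr_apply (θ : IrrCharacter ↥LL) (g : G) (x : ↥LL) :
    (conjIrr LL θ g : ↥LL → ℂ) x =
      (θ : ↥LL → ℂ) ⟨g * x * g⁻¹, (inferInstance : (LL).Normal).conj_mem x x.2 g⟩ := rfl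

theorem conjIrr_one_apply (θ : IrrCharacter ↥LL) (g : G) :
    (conjIrr LL θ g : ↥LL → ℂ) 1 = (θ : ↥LL → ℂ) 1 := by
  rw [conjIrr_apply]
  exact congrArg _ (Subtype.ext (by simp))

theorem conjIrr_mem_Om {θ : IrrCharacter ↥LL} (h : θ ∈ Om D b) (g : G) :
    conjIrr LL θ g ∈ Om D b := by
  refine ⟨conjIrr_mem_coverSet LL h.1 g, fun x hx => ?_⟩
  rw [conjIrr_one_apply, conjIrr_apply]
  exact h.2 _ ((inferInstance : D.Normal).conj_mem (x : G) hx g)

namespace Setting

variable (h : Setting p M B D b)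
include h

theorem isP : IsPGroup p D := IsDefectGroup.isPGroup h.hD

theorem le_centralizer : LL ≤ Subgroup.centralizer (D : Set G) :=
  sup_le (fun a ha => Subgroup.mem_centralizer_iff.2 fun c hc => h.ab c hc a ha) le_rfl

theorem top_eq : (D.subgroupOf LL) ⊔
    Subgroup.centralizer ((D.subgroupOf LL : Subgroup ↥LL) : Set ↥LL) = ⊤ := by
  refine eq_top_iff.2 fun l _ => Subgroup.mem_sup_right
    (Subgroup.mem_centralizer_iff.2 fun v hv => Subtype.ext ?_)
  exact Subgroup.mem_centralizer_iff.1 (h.le_centralizer l.2) (v : G)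
    (Subgroup.mem_subgroupOf.1 hv)

theorem exists_theta0 : ∃ θ₀ : IrrCharacter ↥LL, θ₀ ∈ b ∧ θ₀ ∈ Om D b ∧
    (Cfsg.charDegree (θ₀ : ↥LL → ℂ)).factorization p =
      (D.subgroupOf LL).index.factorization p ∧
    ∀ ω ∈ Om D b, ∃ g : G, ω = conjIrr LL θ₀ g := by
  have hP := h.isP.comap_subtype (K := LL)
  obtain ⟨θ₀, ⟨hθ, hker⟩, huniq⟩ :=
    existsUnique_kerContains hP h.top_eq h.hM h.hind.1 h.hb
  refine ⟨θ₀, hθ, ⟨subset_coverSet LL b hθ, fun x hx => hker x (Subgroup.mem_subgroupOf.2 hx)⟩,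
    factorization_degree_of_kerContains hP h.top_eq h.hM h.hind.1 h.hb hθ hker, ?_⟩
  rintro ω ⟨⟨g, θ, hθb, rfl⟩, hω⟩
  refine ⟨g, congrArg (fun t => conjIrr LL t g) (huniq θ hθb fun x hx => ?_)⟩
  have hmem : g⁻¹ * (x : G) * g ∈ D := by
    simpa using (inferInstance : D.Normal).conj_mem (x : G) (Subgroup.mem_subgroupOf.1 hx) g⁻¹
  have h1 := hω ⟨g⁻¹ * (x : G) * g, Subgroup.mem_sup_left hmem⟩ hmem
  rw [conjIrr_apply, conjIrr_one_apply] at h1
  refine Eq.trans (congrArg _ (Subtype.ext ?_)) h1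
  show (x : G) = g * (g⁻¹ * (x : G) * g) * g⁻¹
  group

theorem charDegree_eq {ω ω' : IrrCharacter ↥LL} (hω : ω ∈ Om D b) (hω' : ω' ∈ Om D b) :
    Cfsg.charDegree (ω : ↥LL → ℂ) = Cfsg.charDegree (ω' : ↥LL → ℂ) := by
  obtain ⟨θ₀, -, -, -, hall⟩ := h.exists_theta0
  obtain ⟨g, rfl⟩ := hall ω hω
  obtain ⟨g', rfl⟩ := hall ω' hω'
  simp only [Cfsg.charDegree, conjIrr_one_apply]

theorem factorization_degree {ω : IrrCharacter ↥LL} (hω : ω ∈ Om D b) :
    (Cfsg.charDegree (ω : ↥LL → ℂ)).factorization p =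
      (D.subgroupOf LL).index.factorization p := by
  obtain ⟨θ₀, -, hθ, hv, -⟩ := h.exists_theta0
  rw [h.charDegree_eq hω hθ, hv]

theorem mem_of_blockOf {χ : IrrCharacter G} {θ : IrrCharacter ↥LL} (hθ : θ ∈ b)
    (hcov : Cfsg.classInner (fun n : ↥LL => (χ : G → ℂ) n) (θ : ↥LL → ℂ) ≠ 0) : χ ∈ B := by
  have h71 := (Cfsg.Agent.S0971.result p M h.hM D h.isP b h.hind.1).2 _ (isPBlock_blockOf χ)
    ⟨χ, mem_blockOf_self χ, θ, hθ, hcov⟩
  rw [isInducedBlock_unique h.hind h71]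
  exact mem_blockOf_self χ

/-- A character with a constituent over `b` lies in `B`. -/
theorem mem_of_covers {χ : IrrCharacter G} {θ : IrrCharacter ↥LL} (hθ : θ ∈ coverSet LL b)
    (hcov : Cfsg.classInner (fun n : ↥LL => (χ : G → ℂ) n) (θ : ↥LL → ℂ) ≠ 0) : χ ∈ B := by
  obtain ⟨g, θ₁, hθ₁, rfl⟩ := hθ
  rw [coe_conjIrr, classInner_restrict_conjBy LL (Characters.isClassFunction_of_isIrr χ.2)] at hcov
  exact h.mem_of_blockOf hθ₁ hcov

theorem exists_witness {θ : IrrCharacter ↥LL} (hθ : θ ∈ coverSet LL b) :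
    ∃ χ ∈ B, Cfsg.classInner (fun n : ↥LL => (χ : G → ℂ) n) (θ : ↥LL → ℂ) ≠ 0 := by
  obtain ⟨φ, hφ, hcov⟩ := CharactersDeep.Clifford.exists_over (G := G) (N := LL) θ.2
  exact ⟨⟨φ, hφ⟩, h.mem_of_covers (χ := ⟨φ, hφ⟩) hθ hcov, hcov⟩

/-- The constituents of the members of `B`. -/
theorem constituent_mem {χ : IrrCharacter G} (hχ : χ ∈ B) {θ : IrrCharacter ↥LL}
    (hcov : Cfsg.classInner (fun n : ↥LL => (χ : G → ℂ) n) (θ : ↥LL → ℂ) ≠ 0) :
    θ ∈ coverSet LL b := by
  obtain ⟨θ₀, hθ₀, -⟩ := h.exists_theta0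
  obtain ⟨χ₁, hχ₁, hc⟩ := h.exists_witness (subset_coverSet LL b hθ₀)
  exact mem_coverSet_of_covers LL h.hB h.hind.1 hχ₁ hθ₀ hc hχ hcov

/-- A p-element fixing a member of `Om` lies in `D C(D)`. -/
theorem mem_of_fixed {ω : IrrCharacter ↥LL} (hω : ω ∈ Om D b) {u : G}
    (hu : ∃ k, orderOf u = p ^ k) (hfix : conjIrr LL ω u = ω) : u ∈ LL := by
  obtain ⟨χ, hχ, hcov⟩ := h.exists_witness hω.1
  exact mem_of_fixes h.hM h.hB h.hD hχ hcov hu (by rw [hfix]; exact sameBlock_refl ω)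

end Setting

theorem conjIrr_of_mem (θ : IrrCharacter ↥LL) {g : G} (hg : g ∈ LL) : conjIrr LL θ g = θ := by
  refine Subtype.ext (funext fun x => ?_)
  rw [conjIrr_apply]
  exact Characters.isClassFunction_of_isIrr θ.2 x ⟨g, hg⟩

open Classical in
/-- An invariant function on `Om` has sum divisible by the p-part of `[Y : D C(D)]`. -/
theorem Setting.dvd_sum (h : Setting p M B D b) {Y : Subgroup G} (hY : LL ≤ Y)
    (m : IrrCharacter ↥LL → ℕ) (hm : ∀ θ, ∀ y ∈ Y, m (conjIrr LL θ y) = m θ) :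
    p ^ ((LL).relIndex Y).factorization p ∣
      ∑ θ : IrrCharacter ↥LL, if θ ∈ Om D b then m θ else 0 := by
  have hp : p.Prime := Fact.out
  obtain ⟨S, hS, -⟩ := Blocks.exists_isSylowIn_ge (p := p) (K := Y) IsPGroup.of_bot bot_le
  letI act : MulAction S {θ : IrrCharacter ↥LL // θ ∈ Om D b} :=
    { smul := fun s θ => ⟨conjIrr LL θ.1 (s : G)⁻¹, conjIrr_mem_Om θ.2 _⟩
      one_smul := fun θ => Subtype.ext (by
        show conjIrr LL θ.1 ((1 : S) : G)⁻¹ = θ.1
        rw [Subgroup.coe_one, inv_one, conjIrr_one])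
      mul_smul := fun s t θ => Subtype.ext (by
        show conjIrr LL θ.1 ((s * t : S) : G)⁻¹ = conjIrr LL (conjIrr LL θ.1 (t : G)⁻¹) (s : G)⁻¹
        rw [Subgroup.coe_mul, mul_inv_rev, conjIrr_mul]) }
  have hstab : ∀ θ : {θ : IrrCharacter ↥LL // θ ∈ Om D b},
      MulAction.stabilizer S θ = (LL).subgroupOf S := by
    intro θ
    ext s
    rw [MulAction.mem_stabilizer_iff, Subgroup.mem_subgroupOf, ← inv_mem_iff (x := (s : G))]
    refine ⟨fun hs => h.mem_of_fixed θ.2 ?_ (congrArg Subtype.val hs), fun hs =>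
      Subtype.ext (conjIrr_of_mem _ hs)⟩
    obtain ⟨k, hk⟩ := IsPGroup.iff_orderOf.1 hS.2.1 s
    exact ⟨k, by rw [orderOf_inv, Subgroup.orderOf_coe, hk]⟩
  have hdvd : ((LL).relIndex S) ∣ ∑ θ : IrrCharacter ↥LL, if θ ∈ Om D b then m θ else 0 := by
    rw [← Finset.sum_filter, Finset.sum_subtype (p := fun θ => θ ∈ Om D b) _ (fun θ => by simp)]
    let q : {θ : IrrCharacter ↥LL // θ ∈ Om D b} →
        MulAction.orbitRel.Quotient S {θ : IrrCharacter ↥LL // θ ∈ Om D b} := Quotient.mk''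
    haveI : Fintype (MulAction.orbitRel.Quotient S {θ : IrrCharacter ↥LL // θ ∈ Om D b}) :=
      Fintype.ofFinite _
    rw [← Finset.sum_fiberwise (s := Finset.univ) (g := q)]
    refine Finset.dvd_sum fun c _ => ?_
    obtain ⟨θ, rfl⟩ : ∃ θ, q θ = c := Quotient.mk''_surjective c
    have hmem : ∀ θ', q θ' = q θ ↔ θ' ∈ MulAction.orbit S θ := fun θ' => by
      show (Quotient.mk'' θ' : MulAction.orbitRel.Quotient S _) = Quotient.mk'' θ ↔ _
      rw [Quotient.eq'', MulAction.orbitRel_apply]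
    rw [Finset.sum_congr rfl (g := fun _ => m θ.1) fun θ' hθ' => ?_, Finset.sum_const, smul_eq_mul]
    · refine Dvd.dvd.mul_right ?_ _
      have hc : (Finset.univ.filter fun θ' => q θ' = q θ).card = (LL).relIndex S := by
        rw [Subgroup.relIndex, ← hstab θ, MulAction.index_stabilizer, ← Fintype.card_subtype,
          ← Nat.card_eq_fintype_card, ← Nat.card_coe_set_eq]
        exact Nat.card_congr (Equiv.subtypeEquivRight hmem)
      rw [hc]
    · obtain ⟨s, rfl⟩ := (hmem θ').1 (Finset.mem_filter.1 hθ').2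
      exact hm θ.1 _ (Y.inv_mem (hS.1 s.2))
  refine dvd_trans ?_ hdvd
  obtain ⟨j, -, hj⟩ := (Nat.dvd_prime_pow hp).1
    ((IsPGroup.iff_card.1 hS.2.1).choose_spec ▸
      (Subgroup.relIndex_dvd_card (H := LL) (K := S)))
  rw [hj]
  refine pow_dvd_pow p ?_
  have e0 : Nat.card Y = Nat.card ↥LL * (LL).relIndex Y := (PLocal.card_mul_relIndex hY).symm
  have e1 : Nat.card Y = Nat.card S * S.relIndex Y := (PLocal.card_mul_relIndex hS.1).symm
  have e2 : Nat.card S = Nat.card ↥(LL ⊓ S) * p ^ j := by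
    rw [← hj, ← Subgroup.inf_relIndex_right, PLocal.card_mul_relIndex inf_le_right]
  have e3 : (Nat.card ↥(LL ⊓ S)).factorization p ≤ (Nat.card ↥LL).factorization p :=
    (Nat.factorization_le_iff_dvd Nat.card_pos.ne' Nat.card_pos.ne').2
      (Subgroup.card_dvd_of_le inf_le_left) p
  have hne1 : (LL).relIndex Y ≠ 0 := fun h0 => by
    rw [h0, mul_zero] at e0; exact Nat.card_pos.ne' e0
  have hne2 : S.relIndex Y ≠ 0 := fun h0 => hS.2.2 (h0 ▸ dvd_zero p)
  have f := congrArg (fun n => n.factorization p) (e0.symm.trans e1)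
  simp only [e2, Nat.factorization_mul Nat.card_pos.ne' hne1,
    Nat.factorization_mul (mul_ne_zero Nat.card_pos.ne' (pow_ne_zero j hp.ne_zero)) hne2,
    Nat.factorization_mul Nat.card_pos.ne' (pow_ne_zero j hp.ne_zero), Finsupp.add_apply,
    Nat.Prime.factorization_pow hp, Finsupp.single_eq_same,
    Nat.factorization_eq_zero_of_not_dvd hS.2.2] at f
  omega

end CfsgLib.EqualDegree
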