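import Cfsg.Agent.Star.Trace
import Cfsg.Agent.Blocks.RegularSupport
import Mathlib.LinearAlgebra.Matrix.Charpoly.Eigs

/-!
# Traces of the group algebra over the local ring

The matrices of an ordinary representation of the group algebra over the local ring, the vanishing
modulo `M` of the trace of an element nilpotent modulo `M`, Schur sums of an irreducible character,
and lifting of orthogonal idempotents and of their equivalences.
-/

set_option autoImplicit false
set_option linter.style.haveILetI false
set_option linter.unusedSectionVars false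
set_option maxHeartbeats 400000

namespace CfsgLib.EqualDegree

open Cfsg CfsgLib.Blocks CfsgLib.Star Polynomial
open scoped ComplexConjugate

universe u

variable {G : Type u} [Group G] [Fintype G] {M : Ideal AlgInt} [M.IsPrime]

/-- The complex group algebra element of an element over the local ring. -/
noncomputable def toCA (M : Ideal AlgInt) [M.IsPrime] :
    MonoidAlgebra (localRing M) G →+* MonoidAlgebra ℂ G :=
  MonoidAlgebra.mapRingHom G (localRing M).subtype

theorem tau_eq_evalFun (f : G → ℂ) (w : MonoidAlgebra (localRing M) G) :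
    tau M f w = evalFun f (toCA M w) := by
  simp [tau_apply, evalFun, toCA]

/-- The matrices of a representation. -/
noncomputable def matRep (M : Ideal AlgInt) [M.IsPrime] {n : ℕ}
    (ρ : Representation ℂ G (Fin n → ℂ)) :
    MonoidAlgebra (localRing M) G →+* Matrix (Fin n) (Fin n) ℂ :=
  (LinearMap.toMatrixAlgEquiv' (R := ℂ) (n := Fin n)).toAlgHom.toRingHom.comp
    (ρ.asAlgebraHom.toRingHom.comp (toCA M))

theorem trace_matRep {n : ℕ} (ρ : Representation ℂ G (Fin n → ℂ))
    (w : MonoidAlgebra (localRing M) G) :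
    (matRep M ρ w).trace = tau M ρ.character w := by
  rw [tau_eq_evalFun, ← trace_asAlgebraHom, LinearMap.trace_eq_matrix_trace ℂ (Pi.basisFun ℂ (Fin n)),
    LinearMap.toMatrix_eq_toMatrix']
  rfl

theorem matRep_algebraMap {n : ℕ} (ρ : Representation ℂ G (Fin n → ℂ)) (c : localRing M) :
    matRep M ρ (algebraMap (localRing M) (MonoidAlgebra (localRing M) G) c) =
      algebraMap ℂ (Matrix (Fin n) (Fin n) ℂ) (c : ℂ) := by
  have h : toCA M (algebraMap (localRing M) (MonoidAlgebra (localRing M) G) c) =
      algebraMap ℂ (MonoidAlgebra ℂ G) (c : ℂ) := by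
    simp [toCA, MonoidAlgebra.coe_algebraMap]
  simp only [matRep, RingHom.coe_comp, Function.comp_apply, h]
  simp [Algebra.algebraMap_eq_smul_one]

/-- An element nilpotent modulo `M` has trace in the ideal. -/
theorem tau_mem_of_nilpotent {χ : G → ℂ} (hχ : Cfsg.IsCharacter G χ)
    {w : MonoidAlgebra (localRing M) G} (hw : IsNilpotent (rho M G w)) :
    Cfsg.MemLocalIdeal M (tau M χ w) := by
  classical
  obtain ⟨n, ρ, rfl⟩ := hχ
  obtain ⟨k, hk⟩ := hw
  rw [← trace_matRep, Matrix.trace_eq_sum_roots_charpoly]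
  refine Multiset.sum_induction (Cfsg.MemLocalIdeal M) _ (fun _ _ => memLocalIdeal_add)
    memLocalIdeal_zero fun l hl => ?_
  have hspec : l ∈ spectrum ℂ (matRep M ρ w) :=
    Matrix.mem_spectrum_iff_isRoot_charpoly.2 (isRoot_of_mem_roots hl)
  haveI : Module.Finite (localRing M) (MonoidAlgebra (localRing M) G) :=
    Module.Finite.equiv (MonoidAlgebra.coeffLinearEquiv (localRing M)
      (S := localRing M) (M := G)).symm
  obtain ⟨F, hF, hF0⟩ := IsIntegral.of_finite (localRing M) w
  have hroot : eval₂ (localRing M).subtype l F = 0 := by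
    have h1 := spectrum.subset_polynomial_aeval (matRep M ρ w) (F.map (localRing M).subtype)
      ⟨l, hspec, rfl⟩
    have h2 : aeval (matRep M ρ w) (F.map (localRing M).subtype) = 0 := by
      rw [← map_zero (matRep M ρ), ← hF0, hom_eval₂, aeval_def, eval₂_map]
      congr 1
      exact RingHom.ext fun c => (matRep_algebraMap ρ c).symm
    rw [h2] at h1
    rcases isEmpty_or_nonempty (Fin n) with hn | hn
    · exact absurd h1 (by simp [spectrum.zero_eq, spectrum.of_subsingleton])
    · rw [spectrum.zero_eq, Set.mem_singleton_iff] at h1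
      simpa [eval_map] using h1
  have hlO : Cfsg.MemLocalRing M l := memLocalRing_of_root hF hroot
  refine (not_isUnit_iff (⟨l, hlO⟩ : localRing M)).1 fun hu => ?_
  obtain ⟨c, hc⟩ := (hu.pow k).exists_right_inv
  have hlk : l ^ k ∈ spectrum ℂ (matRep M ρ (w ^ k)) := by
    rw [map_pow]
    exact spectrum.pow_mem_pow _ k hspec
  have hunit : IsUnit (1 + algebraMap (localRing M) (MonoidAlgebra (localRing M) G) (-c) * w ^ k) :=
    isUnit_one_add (by rw [map_mul, map_pow, hk, mul_zero])
  have h1 := hunit.map (matRep M ρ)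
  rw [map_add, map_one, map_mul, matRep_algebraMap] at h1
  apply hlk
  have hc' : l ^ k * (c : ℂ) = 1 := by
    have := congrArg Subtype.val hc
    simpa using this
  have e : algebraMap ℂ (Matrix (Fin n) (Fin n) ℂ) (l ^ k) - matRep M ρ (w ^ k) =
      algebraMap ℂ (Matrix (Fin n) (Fin n) ℂ) (l ^ k) *
        (1 + algebraMap ℂ (Matrix (Fin n) (Fin n) ℂ) ((-c : localRing M) : ℂ) *
          matRep M ρ (w ^ k)) := by
    rw [mul_add, mul_one, ← mul_assoc, ← map_mul, Subring.coe_neg, mul_neg, hc', map_neg, map_one,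
      neg_one_mul, sub_eq_add_neg]
  show IsUnit _
  rw [e]
  exact ((IsUnit.mk0 _ (left_ne_zero_of_mul_eq_one hc')).map _).mul h1

theorem tau_one_mul_single (f : G → ℂ) (g : G) :
    tau M f (MonoidAlgebra.single g 1) = f g := by
  classical
  rw [tau_apply, Finset.sum_eq_single g (fun b _ hb => by simp [hb.symm]) (by simp)]
  simp

theorem tau_smul (f : G → ℂ) (r : localRing M) (w : MonoidAlgebra (localRing M) G) :
    tau M f (r • w) = (r : ℂ) * tau M f w := by
  simp only [tau_apply, Finset.mul_sum, MonoidAlgebra.coeff_smul, Finsupp.smul_apply, smul_eq_mul,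
    Subring.coe_mul, mul_assoc]

theorem memLocalRing_tau {χ : G → ℂ} (hχ : Cfsg.IsCharacter G χ)
    (w : MonoidAlgebra (localRing M) G) : Cfsg.MemLocalRing M (tau M χ w) := by
  rw [tau_apply]
  exact Subring.sum_mem (localRing M) fun g _ => Subring.mul_mem _ (w.coeff g).2
    (memLocalRing_of_isIntegral (Characters.character_isIntegral hχ g))

/-- Values at a sum of conjugates. -/
theorem sum_conj_values (η : IrrCharacter G) (a b : G) :
    ∑ g : G, (η : G → ℂ) (a * g * b * g⁻¹) =
      (Nat.card G : ℂ) / (η : G → ℂ) 1 * ((η : G → ℂ) a * (η : G → ℂ) b) := by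
  classical
  let z : MonoidAlgebra ℂ G := ofFun fun x =>
    ((Finset.univ.filter fun g : G => g * b * g⁻¹ = x).card : ℂ)
  have hz : z ∈ Ctr ℂ G := mem_ctr_iff.2 fun x c => by
    simp only [z, coeff_ofFun]
    congr 1
    refine (Finset.card_equiv (Equiv.mulLeft c) fun g => ?_).symm
    simp only [Finset.mem_filter, Finset.mem_univ, true_and, Equiv.coe_mulLeft]
    constructor
    · rintro rfl; group
    · intro h
      have := congrArg (fun t => c⁻¹ * t * c) h
      simpa [mul_assoc] using this
  have hsum : ∀ F : G → ℂ, ∑ x : G, z.coeff x * F x = ∑ g : G, F (g * b * g⁻¹) := by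
    intro F
    conv_rhs => rw [← Finset.sum_fiberwise (s := (Finset.univ : Finset G))
      (g := fun g => g * b * g⁻¹)]
    refine Finset.sum_congr rfl fun x _ => ?_
    rw [Finset.sum_congr rfl (g := fun _ => F x) fun g hg => by rw [(Finset.mem_filter.1 hg).2],
      Finset.sum_const, nsmul_eq_mul]
    simp [z]
  have h := evalFun_central_mul η (⟨z, hz⟩ : Ctr ℂ G) (MonoidAlgebra.single a 1)
  have e1 : evalFun (η : G → ℂ) (MonoidAlgebra.single a 1) = (η : G → ℂ) a := by
    rw [evalFun, Finset.sum_eq_single a (fun x _ hx => by simp [hx.symm]) (by simp)]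
    simp
  have e2 : evalFun (η : G → ℂ) (z * MonoidAlgebra.single a 1) =
      ∑ g : G, (η : G → ℂ) (a * g * b * g⁻¹) := by
    rw [evalFun, ← Fintype.sum_equiv (Equiv.mulRight a) (fun x => z.coeff x * (η : G → ℂ) (x * a))
      _ fun x => by simp, hsum]
    refine Finset.sum_congr rfl fun g _ => ?_
    rw [← Characters.isClassFunction_of_isIrr η.2 (g * b * g⁻¹ * a) a]
    congr 1
    group
  rw [e1, e2, omega_apply, hsum, Finset.sum_congr rfl fun g _ =>
    Characters.isClassFunction_of_isIrr η.2 b g, Finset.sum_const, Finset.card_univ, nsmul_eq_mul,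
    ← Nat.card_eq_fintype_card] at h
  rw [h]
  ring

/-- Values at products. -/
theorem sum_split_values (η : IrrCharacter G) (a b : G) :
    ∑ g : G, (η : G → ℂ) (a * g⁻¹) * (η : G → ℂ) (g * b) =
      (Nat.card G : ℂ) / (η : G → ℂ) 1 * (η : G → ℂ) (a * b) := by
  classical
  have hψ : evalFun (η : G → ℂ) ((setIdemC ({η} : Set (IrrCharacter G)) : MonoidAlgebra ℂ G) *
      MonoidAlgebra.single (a * b) 1) = (η : G → ℂ) (a * b) := by
    rw [evalFun_central_mul, omega_setIdemC, if_pos (Set.mem_singleton_iff.2 rfl), one_mul, evalFun,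
      Finset.sum_eq_single (a * b) (fun x _ hx => by simp [hx.symm]) (by simp)]
    simp
  rw [evalFun, ← Fintype.sum_equiv (Equiv.mulRight (a * b))
    (fun y => (setIdemC ({η} : Set (IrrCharacter G)) : MonoidAlgebra ℂ G).coeff y *
      (η : G → ℂ) (y * (a * b))) _ fun y => by simp [mul_assoc]] at hψ
  simp only [coeff_setIdemC, Cfsg.blockCoeff, finsum_mem_singleton,
    ← Characters.character_inv (Characters.isCharacter_of_isIrr η.2)] at hψ
  rw [← hψ, Finset.mul_sum]
  refine Fintype.sum_equiv (Equiv.mulRight a⁻¹) _ _ fun g => ?_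
  simp only [Equiv.coe_mulRight, mul_inv_rev, inv_inv]
  rw [show g * a⁻¹ * (a * b) = g * b by group]
  have h0 : (η : G → ℂ) 1 ≠ 0 := Characters.irr_one_ne_zero η.2
  have h1 : (Nat.card G : ℂ) ≠ 0 := Characters.natCard_ne_zero
  field_simp

theorem tau_sum_conj (η : IrrCharacter G) (X Y : MonoidAlgebra (localRing M) G) :
    ∑ g : G, tau M (η : G → ℂ) (X * MonoidAlgebra.single g 1 * Y * MonoidAlgebra.single g⁻¹ 1) =
      (Nat.card G : ℂ) / (η : G → ℂ) 1 * (tau M (η : G → ℂ) X * tau M (η : G → ℂ) Y) := by
  induction X using MonoidAlgebra.induction_linear with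
  | zero => simp
  | add x y hx hy =>
    simp only [add_mul, map_add, Finset.sum_add_distrib, hx, hy, mul_add]
  | single a r =>
    induction Y using MonoidAlgebra.induction_linear with
    | zero => simp
    | add x y hx hy =>
      simp only [mul_add, add_mul, map_add, Finset.sum_add_distrib, hx, hy]
    | single b t =>
      have e : ∀ g : G, MonoidAlgebra.single a r * MonoidAlgebra.single g 1 *
          MonoidAlgebra.single b t * MonoidAlgebra.single g⁻¹ 1 =
          (r * t) • MonoidAlgebra.single (a * g * b * g⁻¹) (1 : localRing M) := fun g => by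
        simp [MonoidAlgebra.single_mul_single]
      have er : ∀ (x : G) (c : localRing M), MonoidAlgebra.single x c =
          c • MonoidAlgebra.single x (1 : localRing M) := fun x c => by simp
      rw [Finset.sum_congr rfl fun g _ => by rw [e g, tau_smul, tau_one_mul_single],
        ← Finset.mul_sum, sum_conj_values, er a r, er b t, tau_smul, tau_smul, tau_one_mul_single,
        tau_one_mul_single, Subring.coe_mul]
      ring

theorem tau_sum_split (η : IrrCharacter G) (X Y : MonoidAlgebra (localRing M) G) :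
    ∑ g : G, tau M (η : G → ℂ) (X * MonoidAlgebra.single g⁻¹ 1) *
        tau M (η : G → ℂ) (MonoidAlgebra.single g 1 * Y) =
      (Nat.card G : ℂ) / (η : G → ℂ) 1 * tau M (η : G → ℂ) (X * Y) := by
  induction X using MonoidAlgebra.induction_linear with
  | zero => simp
  | add x y hx hy =>
    simp only [add_mul, map_add, Finset.sum_add_distrib, hx, hy, mul_add]
  | single a r =>
    induction Y using MonoidAlgebra.induction_linear with
    | zero => simp
    | add x y hx hy =>
      simp only [mul_add, map_add, Finset.sum_add_distrib, hx, hy]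
    | single b t =>
      have er : ∀ (x : G) (c : localRing M), MonoidAlgebra.single x c =
          c • MonoidAlgebra.single x (1 : localRing M) := fun x c => by simp
      have e : ∀ g : G, tau M (η : G → ℂ) (MonoidAlgebra.single a r * MonoidAlgebra.single g⁻¹ 1) *
          tau M (η : G → ℂ) (MonoidAlgebra.single g 1 * MonoidAlgebra.single b t) =
          (r : ℂ) * t * ((η : G → ℂ) (a * g⁻¹) * (η : G → ℂ) (g * b)) := fun g => by
        rw [MonoidAlgebra.single_mul_single, MonoidAlgebra.single_mul_single, mul_one, one_mul,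
          er (a * g⁻¹) r, er (g * b) t, tau_smul, tau_smul, tau_one_mul_single, tau_one_mul_single]
        ring
      rw [Finset.sum_congr rfl fun g _ => e g, ← Finset.mul_sum, sum_split_values,
        MonoidAlgebra.single_mul_single, er (a * b) (r * t), tau_smul, tau_one_mul_single,
        Subring.coe_mul]
      ring

/-- An idempotent congruent to zero is zero. -/
theorem eq_zero_of_rho_eq_zero {F : MonoidAlgebra (localRing M) G} (hF : F * F = F)
    (h : rho M G F = 0) : F = 0 := by
  have hu : IsUnit (1 + -F) := isUnit_one_add (by rw [map_neg, h, neg_zero])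
  refine hu.mul_right_eq_zero.1 ?_
  rw [← sub_eq_add_neg, sub_mul, one_mul, hF, sub_self]

/-- Orthogonal idempotents lift with their sum. -/
theorem exists_orth_lift (s : Finset (BlockPairs.GA (Res M) G))
    (F : MonoidAlgebra (localRing M) G) (hF : F * F = F)
    (hidem : ∀ i ∈ s, i * i = i) (horth : ∀ a ∈ s, ∀ c ∈ s, a ≠ c → a * c = 0)
    (hsum : ∑ i ∈ s, i = rho M G F) :
    ∃ E : BlockPairs.GA (Res M) G → MonoidAlgebra (localRing M) G,
      (∀ i ∈ s, E i * E i = E i ∧ rho M G (E i) = i ∧ F * E i = E i ∧ E i * F = E i) ∧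
      (∀ a ∈ s, ∀ c ∈ s, a ≠ c → E a * E c = 0) ∧ ∑ i ∈ s, E i = F := by
  classical
  induction s using Finset.induction_on generalizing F with
  | empty =>
    refine ⟨fun _ => 0, by simp, by simp, ?_⟩
    rw [Finset.sum_empty] at hsum ⊢
    exact (eq_zero_of_rho_eq_zero hF hsum.symm).symm
  | insert j s hj ih =>
    have hjj : j * j = j := hidem j (Finset.mem_insert_self _ _)
    have hFj : rho M G F * j = j ∧ j * rho M G F = j := by
      rw [← hsum, Finset.sum_insert hj]
      constructor
      · rw [add_mul, hjj, Finset.sum_mul, Finset.sum_eq_zero fun i hi => ?_, add_zero]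
        exact horth i (Finset.mem_insert_of_mem hi) j (Finset.mem_insert_self _ _)
          fun h => hj (h ▸ hi)
      · rw [mul_add, hjj, Finset.mul_sum, Finset.sum_eq_zero fun i hi => ?_, add_zero]
        exact horth j (Finset.mem_insert_self _ _) i (Finset.mem_insert_of_mem hi)
          fun h => hj (h ▸ hi)
    obtain ⟨A, hA⟩ := rho_surjective (M := M) (G := G) j
    set w := F * A * F with hw
    have hrw : rho M G w = j := by rw [hw, map_mul, map_mul, hA, hFj.1, hFj.2]
    obtain ⟨P, hP, hP2⟩ := exists_idem_lift w (by rw [hrw, hjj])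
    have hFw : Commute F w := by
      show F * (F * A * F) = F * A * F * F
      rw [← mul_assoc, ← mul_assoc, hF, mul_assoc (F * A) F F, hF]
    have hc : Commute F (aeval w P) := commute_aeval hFw P
    set e := aeval w P * F with he
    have hee : e * e = e := by
      rw [he, mul_assoc, ← mul_assoc F, hc.eq, mul_assoc, hF, ← mul_assoc, hP]
    have hFe : F * e = e := by rw [he, ← mul_assoc, hc.eq, mul_assoc, hF]
    have heF : e * F = e := by rw [he, mul_assoc, hF]
    have hre : rho M G e = j := by rw [he, map_mul, hP2, hrw, hFj.2]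
    obtain ⟨E, hE1, hE2, hE3⟩ := ih (F - e)
      (by rw [mul_sub, sub_mul, sub_mul, hF, hFe, heF, hee]; abel)
      (fun i hi => hidem i (Finset.mem_insert_of_mem hi))
      (fun a ha c hc => horth a (Finset.mem_insert_of_mem ha) c (Finset.mem_insert_of_mem hc))
      (by rw [map_sub, hre, ← hsum, Finset.sum_insert hj, add_sub_cancel_left])
    refine ⟨fun i => if i = j then e else E i, ?_, ?_, ?_⟩
    · intro i hi
      rcases Finset.mem_insert.1 hi with rfl | hi
      · simp only [if_true]
        exact ⟨hee, hre, hFe, heF⟩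
      · have hne : i ≠ j := fun h => hj (h ▸ hi)
        simp only [hne, if_false]
        obtain ⟨h1, h2, h3, h4⟩ := hE1 i hi
        refine ⟨h1, h2, ?_, ?_⟩
        · rw [← h3, ← mul_assoc, mul_sub, hF, hFe]
        · rw [← h4, mul_assoc, sub_mul, hF, heF]
    · have he0 : ∀ i ∈ s, e * E i = 0 ∧ E i * e = 0 := by
        intro i hi
        obtain ⟨-, -, h3, h4⟩ := hE1 i hi
        constructor
        · rw [← h3, ← mul_assoc, mul_sub, heF, hee, sub_self, zero_mul]
        · rw [← h4, mul_assoc, sub_mul, hFe, hee, sub_self, mul_zero]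
      intro a ha c hc hac
      rcases Finset.mem_insert.1 ha with rfl | ha' <;> rcases Finset.mem_insert.1 hc with rfl | hc'
      · exact absurd rfl hac
      · simp only [if_true, if_neg hac.symm]
        exact (he0 c hc').1
      · simp only [if_true, if_neg hac]
        exact (he0 a ha').2
      · simp only [if_neg (fun h : a = j => hj (h ▸ ha')), if_neg (fun h : c = j => hj (h ▸ hc'))]
        exact hE2 a ha' c hc' hac
    · rw [Finset.sum_insert hj]
      simp only [if_true]
      rw [Finset.sum_congr rfl fun i hi => by rw [if_neg fun h : i = j => hj (h ▸ hi)], hE3,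
        add_sub_cancel]

/-- Equivalent idempotents lift to equivalent idempotents. -/
theorem exists_eqv_lift {Ei Ek : MonoidAlgebra (localRing M) G} (hi : Ei * Ei = Ei)
    (hk : Ek * Ek = Ek)
    (h : Eqv (⊤ : Subalgebra (Res M) (BlockPairs.GA (Res M) G)) (rho M G Ei) (rho M G Ek)) :
    ∃ U V : MonoidAlgebra (localRing M) G, U * V = Ei ∧ V * U = Ek ∧ Ei * U = U ∧ U * Ek = U ∧
      Ek * V = V ∧ V * Ei = V := by
  obtain ⟨x, y, hx, hy, hxy, hyx⟩ := h.exists_corner (by rw [← map_mul, hi]) (by rw [← map_mul, hk])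
  obtain ⟨x', hx'⟩ := rho_surjective (M := M) (G := G) x
  obtain ⟨y', hy'⟩ := rho_surjective (M := M) (G := G) y
  set U := Ei * x' * Ek with hU
  set Z := Ek * y' * Ei with hZ
  have rU : rho M G U = x := by rw [hU, map_mul, map_mul, hx', hx.2.1, hx.2.2]
  have rZ : rho M G Z = y := by rw [hZ, map_mul, map_mul, hy', hy.2.1, hy.2.2]
  have hEU : Ei * U = U := by rw [hU, ← mul_assoc, ← mul_assoc, hi]
  have hUE : U * Ek = U := by rw [hU, mul_assoc, hk]
  have hEZ : Ek * Z = Z := by rw [hZ, ← mul_assoc, ← mul_assoc, hk]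
  have hZE : Z * Ei = Z := by rw [hZ, mul_assoc, hi]
  set W := U * Z + (1 - Ei) with hW
  have hEW : Ei * W = U * Z := by
    rw [hW, mul_add, ← mul_assoc, hEU, mul_sub, mul_one, hi, sub_self, add_zero]
  have hWE : W * Ei = U * Z := by
    rw [hW, add_mul, mul_assoc, hZE, sub_mul, one_mul, hi, sub_self, add_zero]
  have hrW : rho M G (W - 1) = 0 := by
    rw [hW, map_sub, map_add, map_mul, rU, rZ, hxy, map_sub, map_one]; abel
  obtain ⟨w, hw⟩ : IsUnit W := by
    have := isUnit_one_add hrW
    rwa [add_sub_cancel] at this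
  have hWw : W * ↑w⁻¹ = 1 := by rw [← hw, Units.mul_inv]
  have hwW : ↑w⁻¹ * W = 1 := by rw [← hw, Units.inv_mul]
  have hcomm : Ei * (↑w⁻¹ : MonoidAlgebra (localRing M) G) = ↑w⁻¹ * Ei := by
    calc Ei * (↑w⁻¹ : MonoidAlgebra (localRing M) G) = ↑w⁻¹ * (W * Ei) * ↑w⁻¹ := by
          rw [← mul_assoc, hwW, one_mul]
      _ = ↑w⁻¹ * (Ei * W) * ↑w⁻¹ := by rw [hWE, hEW]
      _ = ↑w⁻¹ * Ei := by rw [mul_assoc, mul_assoc, hWw, mul_one]
  refine ⟨U, Z * ↑w⁻¹, ?_, ?_, hEU, hUE, ?_, ?_⟩
  · rw [← mul_assoc, ← hEW, mul_assoc, hWw, mul_one]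
  · set Q := Z * ↑w⁻¹ * U with hQ
    have hQQ : Q * Q = Q := by
      have e1 : U * (Z * ↑w⁻¹) = Ei := by rw [← mul_assoc, ← hEW, mul_assoc, hWw, mul_one]
      calc Q * Q = Z * ↑w⁻¹ * (U * (Z * ↑w⁻¹)) * U := by rw [hQ]; simp only [mul_assoc]
        _ = Z * ↑w⁻¹ * (Ei * U) := by rw [e1, mul_assoc]
        _ = Q := by rw [hEU, hQ]
    have hQl : Ek * Q = Q := by
      calc Ek * Q = Ek * Z * ↑w⁻¹ * U := by simp only [hQ, mul_assoc]
        _ = Q := by rw [hEZ, hQ]
    have hQr : Q * Ek = Q := by
      calc Q * Ek = Z * ↑w⁻¹ * (U * Ek) := by simp only [hQ, mul_assoc]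
        _ = Q := by rw [hUE, hQ]
    have hrw : rho M G ↑w⁻¹ = 1 := by
      have h1 : rho M G W = 1 := by rw [← sub_eq_zero, ← map_one (rho M G), ← map_sub, hrW]
      have := congrArg (rho M G) hwW
      rwa [map_mul, h1, mul_one, map_one] at this
    refine (sub_eq_zero.1 ?_).symm
    refine eq_zero_of_rho_eq_zero ?_ ?_
    · rw [mul_sub, sub_mul, sub_mul, hk, hQl, hQr, hQQ]; abel
    · rw [map_sub, hQ, map_mul, map_mul, rZ, rU, hrw, mul_one, hyx, sub_self]
  · rw [← mul_assoc, hEZ]
  · rw [mul_assoc, ← hcomm, ← mul_assoc, hZE]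

end CfsgLib.EqualDegree
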